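import Groth.Agent.EllLift.K820.Model
import Groth.Agent.EllLift.K820.ModelFP
import Groth.Agent.EllLift.K820.ModelBC
import Mathlib.AlgebraicGeometry.ValuativeCriterion
import Mathlib.RingTheory.Valuation.ValuationRing
import Mathlib.RingTheory.Bezout
import Mathlib.Algebra.GCDMonoid.IntegrallyClosed

/-!
# The Weierstrass model is proper (helper253)

For any ring `A` and any Weierstrass equation `W` over `A`, the model `K820.EW.E W ⟶ Spec A` is
proper (valuative criterion on the two charts).
-/

set_option autoImplicit false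
universe u

open CategoryTheory CategoryTheory.Limits AlgebraicGeometry
open K820.EW Groth.Agent.VarietyA.Ell

namespace K253.WeiProper

variable {A : Type u} [CommRing A] (W : WeierstrassCurve A)

section pts

variable {R : Type u} [CommRing R]

/-- The `R`-point of the affine chart. -/
noncomputable def mU (a : RU W →+* R) : Spec (CommRingCat.of R) ⟶ E W :=
  Spec.map (CommRingCat.ofHom a) ≫ ιU W

/-- The `R`-point of the chart at infinity. -/
noncomputable def mC (b : RC W →+* R) : Spec (CommRingCat.of R) ⟶ E W :=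
  Spec.map (CommRingCat.ofHom b) ≫ ιC W

theorem mU_str (a : RU W →+* R) : mU W a ≫ str W = Spec.map (CommRingCat.ofHom (a.comp (iU W))) := by
  rw [mU, Category.assoc, ιU_str, ← Spec.map_comp, ← CommRingCat.ofHom_comp]

theorem mC_str (b : RC W →+* R) : mC W b ≫ str W = Spec.map (CommRingCat.ofHom (b.comp (iC W))) := by
  rw [mC, Category.assoc, ιC_str, ← Spec.map_comp, ← CommRingCat.ofHom_comp]

theorem map_mU {R' : Type u} [CommRing R'] (φ : R →+* R') (a : RU W →+* R) :
    Spec.map (CommRingCat.ofHom φ) ≫ mU W a = mU W (φ.comp a) := by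
  rw [mU, mU, ← Category.assoc, ← Spec.map_comp, ← CommRingCat.ofHom_comp]

theorem map_mC {R' : Type u} [CommRing R'] (φ : R →+* R') (b : RC W →+* R) :
    Spec.map (CommRingCat.ofHom φ) ≫ mC W b = mC W (φ.comp b) := by
  rw [mC, mC, ← Category.assoc, ← Spec.map_comp, ← CommRingCat.ofHom_comp]

theorem mU_injective {a a' : RU W →+* R} (h : mU W a = mU W a') : a = a' := by
  rw [mU, mU, cancel_mono] at h
  exact congrArg CommRingCat.Hom.hom (Spec.map_injective h)

theorem mC_injective {b b' : RC W →+* R} (h : mC W b = mC W b') : b = b' := by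
  rw [mC, mC, cancel_mono] at h
  exact congrArg CommRingCat.Hom.hom (Spec.map_injective h)

/-- A point of the intersection, read in both charts. -/
theorem mU_eq_mC_of_L (l : RL W →+* R) :
    mU W (l.comp (algebraMap (RU W) (RL W))) = mC W (l.comp (resC W)) := by
  have h := jU_ιU W
  have h2 := congrArg (fun t => Spec.map (CommRingCat.ofHom l) ≫ t) h
  simp only [← Category.assoc] at h2
  rw [jU, jC, ← Spec.map_comp, ← Spec.map_comp, ← CommRingCat.ofHom_comp, ← CommRingCat.ofHom_comp] at h2
  exact h2

/-- A point of the affine chart with `y` invertible lies in the chart at infinity. -/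
theorem exists_mC_of_isUnit (a : RU W →+* R) (w : R) (hw : w * a (yU W) = 1) :
    ∃ b : RC W →+* R, mU W a = mC W b ∧ b.comp (iC W) = a.comp (iU W) ∧
      b (wC W) = w ∧ b (zC W) = w * a (xU W) := by
  have hu : IsUnit (a (yU W)) := IsUnit.of_mul_eq_one w (by rw [mul_comm]; exact hw)
  let l : RL W →+* R := IsLocalization.Away.lift (yU W) hu
  have hl : l.comp (algebraMap (RU W) (RL W)) = a := IsLocalization.Away.lift_comp _ _
  have hl' : ∀ r, l (algebraMap (RU W) (RL W) r) = a r := fun r => IsLocalization.Away.lift_eq _ _ r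
  have hlw : l (wL W) = w := by
    have h1 := congrArg l (wL_mul W)
    rw [map_mul, map_one, yL, hl'] at h1
    linear_combination w * h1 - l (wL W) * hw
  refine ⟨l.comp (resC W), ?_, ?_, ?_, ?_⟩
  · rw [← mU_eq_mC_of_L, hl]
  · rw [RingHom.comp_assoc, resC_comp, iL, ← RingHom.comp_assoc, hl]
  · rw [RingHom.comp_apply, resC_w, hlw]
  · rw [RingHom.comp_apply, resC_z, zL, map_mul, hlw, xL, hl']

/-- A point of the chart at infinity with `w` invertible lies in the affine chart. -/
theorem exists_mU_of_isUnit (b : RC W →+* R) (y : R) (hy : b (wC W) * y = 1) :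
    ∃ a : RU W →+* R, mC W b = mU W a ∧ a.comp (iU W) = b.comp (iC W) := by
  let _ : Algebra (RC W) (RL W) := (resC W).toAlgebra
  have := isLocalization_resC W
  have hu : IsUnit (b (wC W)) := IsUnit.of_mul_eq_one y hy
  let l : RL W →+* R := IsLocalization.Away.lift (wC W) hu
  have hl : l.comp (resC W) = b := IsLocalization.Away.lift_comp (S := RL W) _ _
  refine ⟨l.comp (algebraMap (RU W) (RL W)), ?_, ?_⟩
  · rw [mU_eq_mC_of_L, hl]
  · rw [RingHom.comp_assoc]
    have : (algebraMap (RU W) (RL W)).comp (iU W) = (resC W).comp (iC W) := (resC_comp W).symm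
    rw [this, ← RingHom.comp_assoc, hl]

/-- Over a field, equality of a point of the affine chart and one of the chart at infinity. -/
theorem mul_eq_one_of_mU_eq_mC {K : Type u} [Field K] (a : RU W →+* K) (b : RC W →+* K)
    (h : mU W a = mC W b) : b (wC W) * a (yU W) = 1 := by
  obtain ⟨p⟩ : Nonempty (Spec (CommRingCat.of K)) := inferInstanceAs (Nonempty (PrimeSpectrum K))
  have h1 : ιU W (Spec.map (CommRingCat.ofHom a) p) = ιC W (Spec.map (CommRingCat.ofHom b) p) := by
    have h2 := congrArg (fun t : Spec (CommRingCat.of K) ⟶ E W => t p) h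
    simp only [mU, mC, Scheme.Hom.comp_apply] at h2
    exact h2
  have h3 : yU W ∉ PrimeSpectrum.asIdeal (Spec.map (CommRingCat.ofHom a) p) := by
    rw [← range_jU]
    obtain ⟨t, ht, -⟩ := (eq_iff W).mp h1
    exact ⟨t, ht⟩
  have h4 : a (yU W) ≠ 0 := by
    intro h5
    apply h3
    change a (yU W) ∈ PrimeSpectrum.asIdeal p
    rw [h5]
    exact Ideal.zero_mem _
  obtain ⟨b', hb', -, hw, -⟩ := exists_mC_of_isUnit W a (a (yU W))⁻¹ (inv_mul_cancel₀ h4)
  have h6 : b' = b := mC_injective W (hb'.symm.trans h)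
  rw [← h6, hw, inv_mul_cancel₀ h4]

/-- A point with values in a local ring lies in one of the two charts. -/
theorem exists_of_local [IsLocalRing R] (m : Spec (CommRingCat.of R) ⟶ E W) :
    (∃ a, m = mU W a) ∨ (∃ b, m = mC W b) := by
  have key : ∀ {B : Type u} [CommRing B] (j : Spec (CommRingCat.of B) ⟶ E W) [IsOpenImmersion j],
      m (IsLocalRing.closedPoint R) ∈ j.opensRange → ∃ a : B →+* R, m = Spec.map (CommRingCat.ofHom a) ≫ j := by
    intro B _ j _ hj
    have hr : Set.range m ⊆ Set.range j := by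
      rintro _ ⟨x, rfl⟩
      have h1 : (IsLocalRing.closedPoint R : PrimeSpectrum R) ∈ (m ⁻¹ᵁ j.opensRange) := hj
      exact (IsLocalRing.specializes_closedPoint (R := R) x).mem_open (m ⁻¹ᵁ j.opensRange).isOpen h1
    let l := IsOpenImmersion.lift j m hr
    refine ⟨(Spec.preimage l).hom, ?_⟩
    rw [CommRingCat.ofHom_hom, Spec.map_preimage, IsOpenImmersion.lift_fac]
  rcases exists_preimage W (m (IsLocalRing.closedPoint R)) with h | h
  · exact Or.inl (key (ιU W) h)
  · exact Or.inr (key (ιC W) h)

end pts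

section val

variable {R K : Type u} [CommRing R] [Field K] [Algebra R K]

/-- Uniqueness of extensions of points. -/
theorem ext_of_injective [IsLocalRing R] (hinj : Function.Injective (algebraMap R K))
    {m m' : Spec (CommRingCat.of R) ⟶ E W}
    (h : Spec.map (CommRingCat.ofHom (algebraMap R K)) ≫ m =
      Spec.map (CommRingCat.ofHom (algebraMap R K)) ≫ m') : m = m' := by
  have cc : ∀ b b' : RC W →+* R, Spec.map (CommRingCat.ofHom (algebraMap R K)) ≫ mC W b =
      Spec.map (CommRingCat.ofHom (algebraMap R K)) ≫ mC W b' → mC W b = mC W b' := by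
    intro b b' hb
    rw [map_mC, map_mC] at hb
    have h1 := mC_injective W hb
    congr 1
    refine RingHom.ext fun r => ?_
    exact hinj (congrArg (fun t : RC W →+* K => t r) h1)
  have uu : ∀ b b' : RU W →+* R, Spec.map (CommRingCat.ofHom (algebraMap R K)) ≫ mU W b =
      Spec.map (CommRingCat.ofHom (algebraMap R K)) ≫ mU W b' → mU W b = mU W b' := by
    intro b b' hb
    rw [map_mU, map_mU] at hb
    have h1 := mU_injective W hb
    congr 1
    refine RingHom.ext fun r => ?_
    exact hinj (congrArg (fun t : RU W →+* K => t r) h1)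
  have uc : ∀ (a : RU W →+* R) (b : RC W →+* R), Spec.map (CommRingCat.ofHom (algebraMap R K)) ≫ mU W a =
      Spec.map (CommRingCat.ofHom (algebraMap R K)) ≫ mC W b → mU W a = mC W b := by
    intro a b hab
    have h1 := hab
    rw [map_mU, map_mC] at h1
    have h2 := mul_eq_one_of_mU_eq_mC W _ _ h1
    have h3 : b (wC W) * a (yU W) = 1 := by
      apply hinj
      rw [map_mul, map_one]
      exact h2
    obtain ⟨b', hb', -, -, -⟩ := exists_mC_of_isUnit W a _ h3
    rw [hb'] at hab ⊢
    exact cc _ _ hab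
  rcases exists_of_local W m with ⟨a, rfl⟩ | ⟨b, rfl⟩ <;>
    rcases exists_of_local W m' with ⟨a', rfl⟩ | ⟨b', rfl⟩
  · exact uu _ _ h
  · exact uc _ _ h
  · exact (uc _ _ h.symm).symm
  · exact cc _ _ h

variable [IsDomain R] [ValuationRing R] [IsFractionRing R K]

/-- Extension of points of the affine chart over a valuation ring. -/
theorem exists_extend_U (s : A →+* R) (a : RU W →+* K) (ha : a.comp (iU W) = (algebraMap R K).comp s) :
    ∃ m : Spec (CommRingCat.of R) ⟶ E W, Spec.map (CommRingCat.ofHom (algebraMap R K)) ≫ m = mU W a ∧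
      m ≫ str W = Spec.map (CommRingCat.ofHom s) := by
  have hinj : Function.Injective (algebraMap R K) := IsFractionRing.injective R K
  set x := a (xU W) with hx
  set y := a (yU W) with hy
  have heq : WEq W ((algebraMap R K).comp s) x y := by
    rw [← ha]
    exact wEq_map (wEq_U W) a
  have heq' := heq
  unfold WEq at heq'
  simp only [RingHom.comp_apply] at heq'
  by_cases hxR : ∃ x₀ : R, algebraMap R K x₀ = x
  · obtain ⟨x₀, hx₀⟩ := hxR
    have hyint : IsIntegral R y := by
      let p : Polynomial R := Polynomial.X ^ 2 + Polynomial.C (s W.a₁ * x₀ + s W.a₃) * Polynomial.X -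
        Polynomial.C (x₀ ^ 3 + s W.a₂ * x₀ ^ 2 + s W.a₄ * x₀ + s W.a₆)
      refine ⟨p, ?_, ?_⟩
      · have : p = Polynomial.X ^ 2 + (Polynomial.C (s W.a₁ * x₀ + s W.a₃) * Polynomial.X -
          Polynomial.C (x₀ ^ 3 + s W.a₂ * x₀ ^ 2 + s W.a₄ * x₀ + s W.a₆)) := by
          simp only [p]; ring
        rw [this]
        apply Polynomial.monic_X_pow_add
        refine lt_of_le_of_lt (b := (1 : WithBot ℕ)) ?_ (by norm_num)
        refine (Polynomial.degree_sub_le _ _).trans (max_le ?_ ?_)
        · exact (Polynomial.degree_C_mul_X_le _)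
        · exact Polynomial.degree_C_le.trans (by norm_num)
      · simp only [p, Polynomial.eval₂_sub, Polynomial.eval₂_add, Polynomial.eval₂_mul, Polynomial.eval₂_pow,
          Polynomial.eval₂_X, Polynomial.eval₂_C, map_add, map_mul, map_pow, hx₀]
        linear_combination heq'
    have : IsIntegrallyClosed R := inferInstance
    obtain ⟨y₀, hy₀⟩ := IsIntegrallyClosed.isIntegral_iff.mp hyint
    have heq₀ : WEq W s x₀ y₀ := by
      unfold WEq
      apply hinj
      simp only [map_add, map_mul, map_pow, hx₀, hy₀]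
      exact heq'
    refine ⟨mU W (liftU s x₀ y₀ heq₀), ?_, ?_⟩
    · rw [map_mU]
      congr 1
      apply hom_ext_U
      · rw [RingHom.comp_assoc, liftU_comp, ha]
      · rw [RingHom.comp_apply, liftU_x, hx₀]
      · rw [RingHom.comp_apply, liftU_y, hy₀]
    · rw [mU_str, liftU_comp]
  · -- the point at infinity is in the closure
    have hx0 : x ≠ 0 := by
      intro h0
      exact hxR ⟨0, by rw [map_zero, h0]⟩
    obtain ⟨t, ht⟩ : ∃ t : R, algebraMap R K t = x⁻¹ := by
      rcases ValuationRing.isInteger_or_isInteger R x with h | h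
      · exact absurd h hxR
      · exact h
    have htm : t ∈ IsLocalRing.maximalIdeal R := by
      rw [IsLocalRing.mem_maximalIdeal]
      intro hu
      apply hxR
      obtain ⟨t', ht'⟩ := hu.exists_right_inv
      refine ⟨t', ?_⟩
      have h1 := congrArg (algebraMap R K) ht'
      rw [map_mul, map_one, ht] at h1
      field_simp at h1
      exact h1
    have htx : algebraMap R K t * x = 1 := by rw [ht, inv_mul_cancel₀ hx0]
    set τ := algebraMap R K t with hτ
    -- `u = y / x` satisfies an equation
    set u := y * τ with hu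
    have hyu : y = u * x := by
      rw [hu]; linear_combination -y * htx
    have e2 : τ * u ^ 2 + algebraMap R K (s W.a₁) * τ * u + algebraMap R K (s W.a₃) * τ ^ 2 * u =
        1 + algebraMap R K (s W.a₂) * τ + algebraMap R K (s W.a₄) * τ ^ 2 + algebraMap R K (s W.a₆) * τ ^ 3 := by
      have h1 : (τ * x) ^ 3 = 1 := by rw [htx, one_pow]
      have h2 : (τ * x) ^ 2 = 1 := by rw [htx, one_pow]
      rw [hu]
      linear_combination τ ^ 3 * heq' - (algebraMap R K (s W.a₁)) * τ ^ 2 * y * htx
        + h1 + algebraMap R K (s W.a₂) * τ * h2 + algebraMap R K (s W.a₄) * τ ^ 2 * htx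
    have huR : ¬ ∃ u₀ : R, algebraMap R K u₀ = u := by
      rintro ⟨u₀, hu₀⟩
      have h3 : t * u₀ ^ 2 + s W.a₁ * t * u₀ + s W.a₃ * t ^ 2 * u₀ =
          1 + s W.a₂ * t + s W.a₄ * t ^ 2 + s W.a₆ * t ^ 3 := by
        apply hinj
        simp only [map_add, map_mul, map_pow, map_one, hu₀]
        exact e2
      have h4 : (1 : R) = t * (u₀ ^ 2 + s W.a₁ * u₀ + s W.a₃ * t * u₀ - s W.a₂ - s W.a₄ * t - s W.a₆ * t ^ 2) := by
        linear_combination -h3
      have h5 : (1 : R) ∈ IsLocalRing.maximalIdeal R := by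
        rw [h4]
        exact Ideal.mul_mem_right _ _ htm
      exact (Ideal.ne_top_iff_one _).mp (IsLocalRing.maximalIdeal.isMaximal R).ne_top h5
    have hu0 : u ≠ 0 := by
      intro h0
      exact huR ⟨0, by rw [map_zero, h0]⟩
    obtain ⟨z₀, hz₀⟩ : ∃ z₀ : R, algebraMap R K z₀ = u⁻¹ := by
      rcases ValuationRing.isInteger_or_isInteger R u with h | h
      · exact absurd h huR
      · exact h
    have hy0 : y ≠ 0 := by
      rw [hyu]; exact mul_ne_zero hu0 hx0
    obtain ⟨b, hb, hbi, hbw, hbz⟩ := exists_mC_of_isUnit W a y⁻¹ (inv_mul_cancel₀ hy0)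
    have hbz' : b (zC W) = algebraMap R K z₀ := by
      rw [hbz, hz₀, ← hx, hyu]
      field_simp
    have hbw' : b (wC W) = algebraMap R K (t * z₀) := by
      rw [hbw, map_mul, hz₀, ← hτ, ht, hyu]
      field_simp
    have heqC : WEqInf W ((algebraMap R K).comp s) (b (zC W)) (b (wC W)) := by
      rw [← ha, ← hbi]
      exact wEqInf_map (wEqInf_C W) b
    have heq₀ : WEqInf W s z₀ (t * z₀) := by
      unfold WEqInf at heqC ⊢
      rw [hbz', hbw'] at heqC
      simp only [RingHom.comp_apply] at heqC
      apply hinj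
      simp only [map_add, map_mul, map_pow] at heqC ⊢
      exact heqC
    refine ⟨mC W (liftC s z₀ (t * z₀) heq₀), ?_, ?_⟩
    · rw [map_mC, hb]
      congr 1
      apply hom_ext_C
      · rw [RingHom.comp_assoc, liftC_comp, hbi, ha]
      · rw [RingHom.comp_apply, liftC_z, hbz']
      · rw [RingHom.comp_apply, liftC_w, hbw']
    · rw [mC_str, liftC_comp]

/-- Extension of points over a valuation ring. -/
theorem exists_extend (s : A →+* R) (m : Spec (CommRingCat.of K) ⟶ E W)
    (hm : m ≫ str W = Spec.map (CommRingCat.ofHom (algebraMap R K)) ≫ Spec.map (CommRingCat.ofHom s)) :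
    ∃ m' : Spec (CommRingCat.of R) ⟶ E W, Spec.map (CommRingCat.ofHom (algebraMap R K)) ≫ m' = m ∧
      m' ≫ str W = Spec.map (CommRingCat.ofHom s) := by
  rw [← Spec.map_comp, ← CommRingCat.ofHom_comp] at hm
  have hU : ∀ a : RU W →+* K, m = mU W a → a.comp (iU W) = (algebraMap R K).comp s := by
    rintro a rfl
    rw [mU_str] at hm
    exact congrArg CommRingCat.Hom.hom (Spec.map_injective hm)
  have hC : ∀ a : RC W →+* K, m = mC W a → a.comp (iC W) = (algebraMap R K).comp s := by
    rintro a rfl
    rw [mC_str] at hm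
    exact congrArg CommRingCat.Hom.hom (Spec.map_injective hm)
  rcases exists_of_local W m with ⟨a, rfl⟩ | ⟨b, hb⟩
  · exact exists_extend_U W s a (hU a rfl)
  · by_cases hw : b (wC W) = 0
    · have h1 : WEqInf W ((algebraMap R K).comp s) (b (zC W)) (b (wC W)) := by
        rw [← hC b hb]
        exact wEqInf_map (wEqInf_C W) b
      have hz : b (zC W) = 0 := by
        unfold WEqInf at h1
        rw [hw] at h1
        have h2 : b (zC W) ^ 3 = 0 := by linear_combination -h1
        exact (pow_eq_zero_iff (n := 3) (by norm_num)).mp h2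
      have h0 : WEqInf W s 0 0 := by simp [WEqInf]
      refine ⟨mC W (liftC s 0 0 h0), ?_, ?_⟩
      · rw [map_mC, hb]
        congr 1
        apply hom_ext_C
        · rw [RingHom.comp_assoc, liftC_comp, hC b hb]
        · rw [RingHom.comp_apply, liftC_z, map_zero, hz]
        · rw [RingHom.comp_apply, liftC_w, map_zero, hw]
      · rw [mC_str, liftC_comp]
    · obtain ⟨a, ha, ha'⟩ := exists_mU_of_isUnit W b (b (wC W))⁻¹ (mul_inv_cancel₀ hw)
      obtain ⟨m', h1, h2⟩ := exists_extend_U W s a (by rw [ha', hC b hb])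
      exact ⟨m', by rw [h1, hb, ha], h2⟩

end val

theorem range_union : Set.range (ιU W) ∪ Set.range (ιC W) = Set.univ := by
  rw [Set.eq_univ_iff_forall]
  intro e
  exact exists_preimage W e

instance compactSpace : CompactSpace (E W) := by
  rw [← isCompact_univ_iff, ← range_union]
  exact (isCompact_range (ιU W).continuous).union (isCompact_range (ιC W).continuous)

theorem inter_eq : (Set.range (ιU W)) ∩ (Set.range (ιC W)) = Set.range (jU W ≫ ιU W) := by
  ext e
  constructor
  · rintro ⟨⟨a, rfl⟩, ⟨b, hb⟩⟩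
    obtain ⟨t, ht, -⟩ := (eq_iff W).mp hb.symm
    exact ⟨t, by rw [Scheme.Hom.comp_apply, ht]⟩
  · rintro ⟨t, rfl⟩
    refine ⟨⟨jU W t, by rw [Scheme.Hom.comp_apply]⟩, ⟨jC W t, ?_⟩⟩
    rw [jU_ιU, Scheme.Hom.comp_apply]

instance quasiSeparatedSpace : QuasiSeparatedSpace (E W) := by
  refine Scheme.quasiSeparatedSpace_of_isOpenCover (X := E W) (I := Bool)
    (fun b => Bool.rec (ιU W).opensRange (ιC W).opensRange b) ?_ ?_ ?_
  · rw [TopologicalSpace.IsOpenCover, eq_top_iff]
    intro e _
    rw [TopologicalSpace.Opens.mem_iSup]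
    rcases exists_preimage W e with h | h
    · exact ⟨false, h⟩
    · exact ⟨true, h⟩
  · rintro (_ | _)
    · exact isAffineOpen_opensRange (ιU W)
    · exact isAffineOpen_opensRange (ιC W)
  · have h1 : IsCompact (Set.range (jU W ≫ ιU W)) := isCompact_range (jU W ≫ ιU W).continuous
    rintro (_ | _) (_ | _)
    · change IsCompact (Set.range (ιU W) ∩ Set.range (ιU W))
      rw [Set.inter_self]
      exact isCompact_range (ιU W).continuous
    · change IsCompact (Set.range (ιU W) ∩ Set.range (ιC W))
      rw [inter_eq]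
      exact h1
    · change IsCompact (Set.range (ιC W) ∩ Set.range (ιU W))
      rw [Set.inter_comm, inter_eq]
      exact h1
    · change IsCompact (Set.range (ιC W) ∩ Set.range (ιC W))
      rw [Set.inter_self]
      exact isCompact_range (ιC W).continuous

/-- **The Weierstrass model is proper.** -/
instance isProper_str : IsProper (str W) := by
  have : QuasiCompact (str W) := inferInstance
  have : QuasiSeparated (str W) := inferInstance
  have : LocallyOfFiniteType (str W) := inferInstance
  apply IsProper.of_valuativeCriterion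
  rw [ValuativeCriterion.iff]
  constructor
  · rintro ⟨R, K, i₁, i₂, ⟨w⟩⟩
    rw [CommSq.HasLift.iff]
    obtain ⟨s, hs⟩ : ∃ s : A →+* R, i₂ = Spec.map (CommRingCat.ofHom s) :=
      ⟨(Spec.preimage i₂).hom, (Spec.map_preimage _).symm⟩
    rw [hs] at w
    obtain ⟨m, h1, h2⟩ := exists_extend W (R := R) (K := K) s i₁ w
    exact ⟨⟨m, h1, by rw [h2]; exact hs.symm⟩⟩
  · rintro ⟨R, K, i₁, i₂, ⟨w⟩⟩
    constructor
    rintro ⟨l₁, hl₁, hl₁'⟩ ⟨l₂, hl₂, hl₂'⟩
    have : l₁ = l₂ := ext_of_injective W (R := R) (K := K) (IsFractionRing.injective R K) (hl₁.trans hl₂.symm)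
    subst this
    rfl

end K253.WeiProper
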