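import Groth.Agent.CurvSt.K253.WeiAlg
import Groth.Agent.CurvSt.K253.WeiProper
import Groth.Agent.EllLift.K820.FibrePull
import Groth.Agent.Picfga.ChiCech
import Groth.Agent.CurvesC.UnitCoh

/-!
# Cohomology of the structure sheaf of the Weierstrass model (helper253)

For any nontrivial ring `A` and any Weierstrass equation `W` over `A`, `H¹(E_W, O)` is free of
rank one over `A`.
-/

set_option autoImplicit false
set_option backward.isDefEq.respectTransparency false
universe u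

open CategoryTheory CategoryTheory.Limits AlgebraicGeometry Opposite
open K820.EW Groth.Agent.VarietyA.Ell Groth.Agent.Picfga
open Groth.Agent.Fdesc.LocGen (ores)

namespace K253.WeiCoh

section ev

variable {B : Type u} [CommRing B] {X : Scheme.{u}} (e : Spec (CommRingCat.of B) ⟶ X)

theorem ev_bijective [IsOpenImmersion e] (V : X.Opens) (hV : V = e.opensRange) (h : ⊤ ≤ e ⁻¹ᵁ V) :
    Function.Bijective (ev e V h) := by
  subst hV
  have h1 : IsIso (e.app e.opensRange) := Scheme.Hom.isIso_app e _ le_rfl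
  have h2 : IsIso (e.appLE e.opensRange ⊤ h) := by
    rw [Scheme.Hom.appLE]
    have h3 : IsIso ((Spec (CommRingCat.of B)).presheaf.map (homOfLE h).op) := by
      have h4 : e ⁻¹ᵁ e.opensRange = ⊤ := top_le_iff.mp h
      have h5 : IsIso (homOfLE h) := ⟨homOfLE (by rw [h4]), rfl, rfl⟩
      infer_instance
    infer_instance
  have h3 : IsIso (e.appLE e.opensRange ⊤ h ≫ (Scheme.ΓSpecIso (CommRingCat.of B)).hom) := inferInstance
  exact ConcreteCategory.bijective_of_isIso _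

/-- Evaluation along a composite. -/
theorem ev_comp {B' : Type u} [CommRing B'] (φ : B →+* B') (V : X.Opens) (h : ⊤ ≤ e ⁻¹ᵁ V)
    (e' : Spec (CommRingCat.of B') ⟶ X) (he' : e' = Spec.map (CommRingCat.ofHom φ) ≫ e)
    (h' : ⊤ ≤ e' ⁻¹ᵁ V) (a : Γ(X, V)) : ev e' V h' a = φ (ev e V h a) := by
  have h1 := ev_app e (φ := φ) (g := 𝟙 X) (e' := e') (by rw [Category.comp_id, he']) V h h' a
  exact h1

/-- Evaluation of constants. -/
theorem ev_sc' {A : Type u} [CommRing A] (q : X ⟶ Spec (CommRingCat.of A)) (s : A →+* B)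
    (hs : e ≫ q = Spec.map (CommRingCat.ofHom s)) (V : X.Opens) (h : ⊤ ≤ e ⁻¹ᵁ V) (a : A) :
    ev e V h (sc q V a) = s a := by
  have h1 : q.appLE ⊤ V (le_pre V q) ≫ e.appLE V ⊤ h = (e ≫ q).appLE ⊤ ⊤ (le_pre _ _) :=
    Scheme.Hom.appLE_comp_appLE _ _ _ _ _ _ _
  have h2 : (Scheme.ΓSpecIso (CommRingCat.of A)).inv ≫ (e ≫ q).appLE ⊤ ⊤ (le_pre _ _) ≫
      (Scheme.ΓSpecIso (CommRingCat.of B)).hom = CommRingCat.ofHom s := by
    have : ∀ (f : Spec (CommRingCat.of B) ⟶ Spec (CommRingCat.of A)) (_ : f = Spec.map (CommRingCat.ofHom s))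
        (h : ⊤ ≤ f ⁻¹ᵁ ⊤), (Scheme.ΓSpecIso (CommRingCat.of A)).inv ≫ f.appLE ⊤ ⊤ h ≫
          (Scheme.ΓSpecIso (CommRingCat.of B)).hom = CommRingCat.ofHom s := by
      rintro f rfl h
      have h4 : (Spec.map (CommRingCat.ofHom s)).appLE ⊤ ⊤ h ≫ (Scheme.ΓSpecIso (CommRingCat.of B)).hom =
          (Scheme.ΓSpecIso (CommRingCat.of A)).hom ≫ CommRingCat.ofHom s := by
        rw [← Scheme.ΓSpecIso_naturality, Scheme.Hom.appTop, Scheme.Hom.app_eq_appLE]
        rfl
      rw [h4, Iso.inv_hom_id_assoc]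
    exact this _ hs _
  have h3 : (Scheme.ΓSpecIso (CommRingCat.of A)).inv ≫ q.appLE ⊤ V (le_pre V q) ≫ e.appLE V ⊤ h ≫
      (Scheme.ΓSpecIso (CommRingCat.of B)).hom = CommRingCat.ofHom s := by
    rw [reassoc_of% h1, h2]
  exact congrArg (fun t : CommRingCat.of A ⟶ CommRingCat.of B => t a) h3

end ev

variable {A : Type u} [CommRing A] (W : WeierstrassCurve A)

/-- the affine chart as an open -/
noncomputable abbrev oU : (E W).Opens := (ιU W).opensRange

/-- the chart at infinity as an open -/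
noncomputable abbrev oC : (E W).Opens := (ιC W).opensRange

theorem sup_eq : oU W ⊔ oC W = ⊤ := by
  rw [eq_top_iff]
  intro e _
  exact exists_preimage W e

theorem inf_eq : oU W ⊓ oC W = (jU W ≫ ιU W).opensRange := by
  ext e
  exact Set.ext_iff.mp (WeiProper.inter_eq W) e

theorem hU : (⊤ : (Spec (CommRingCat.of (RU W))).Opens) ≤ ιU W ⁻¹ᵁ oU W := fun _ _ => ⟨_, rfl⟩

theorem hC : (⊤ : (Spec (CommRingCat.of (RC W))).Opens) ≤ ιC W ⁻¹ᵁ oC W := fun _ _ => ⟨_, rfl⟩

theorem hL : (⊤ : (Spec (CommRingCat.of (RL W))).Opens) ≤ (jU W ≫ ιU W) ⁻¹ᵁ (oU W ⊓ oC W) := by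
  rw [inf_eq]; exact fun x _ => ⟨x, rfl⟩

theorem hLU : (⊤ : (Spec (CommRingCat.of (RL W))).Opens) ≤ (jU W ≫ ιU W) ⁻¹ᵁ (oU W) :=
  (hL W).trans fun _ hx => hx.1

theorem hLC : (⊤ : (Spec (CommRingCat.of (RL W))).Opens) ≤ (jU W ≫ ιU W) ⁻¹ᵁ (oC W) :=
  (hL W).trans fun _ hx => hx.2

/-- functions on the affine chart -/
noncomputable def fU : Γ(E W, oU W) →+* RU W := ev (ιU W) (oU W) (hU W)

/-- functions on the chart at infinity -/
noncomputable def fC : Γ(E W, oC W) →+* RC W := ev (ιC W) (oC W) (hC W)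

/-- functions on the intersection -/
noncomputable def fL : Γ(E W, oU W ⊓ oC W) →+* RL W := ev (jU W ≫ ιU W) (oU W ⊓ oC W) (hL W)

theorem fU_bijective : Function.Bijective (fU W) := ev_bijective _ _ rfl _

theorem fC_bijective : Function.Bijective (fC W) := ev_bijective _ _ rfl _

theorem fL_bijective : Function.Bijective (fL W) := ev_bijective _ _ (inf_eq W) _

theorem fL_resU (a : Γ(E W, oU W)) :
    fL W ((E W).presheaf.map (homOfLE (inf_le_left : oU W ⊓ oC W ≤ oU W)).op a) =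
      algebraMap (RU W) (RL W) (fU W a) := by
  rw [fL, ev_res _ _ _ (hLU W)]
  exact ev_comp (ιU W) _ _ _ _ rfl _ _

theorem fL_resC (a : Γ(E W, oC W)) :
    fL W ((E W).presheaf.map (homOfLE (inf_le_right : oU W ⊓ oC W ≤ oC W)).op a) =
      resC W (fC W a) := by
  rw [fL, ev_res _ _ _ (hLC W)]
  exact ev_comp (ιC W) _ _ _ _ (jU_ιU W) _ _

theorem fL_sc (a : A) : fL W (sc (str W) (oU W ⊓ oC W) a) = iL W a := by
  refine ev_sc' _ _ (iL W) ?_ _ _ _
  rw [Category.assoc, ιU_str, jU, ← Spec.map_comp, ← CommRingCat.ofHom_comp]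
  rfl

theorem fU_sc (a : A) : fU W (sc (str W) (oU W) a) = iU W a :=
  ev_sc' _ _ (iU W) (ιU_str W) _ _ _

/-- the structure of a scheme over the base -/
@[reducible]
noncomputable def ov : (E W).Over (Spec (CommRingCat.of A)) := ⟨str W⟩

attribute [local instance] ov

theorem over_eq : (E W ↘ Spec (CommRingCat.of A)) = str W := rfl

theorem str_eq_sc {X : Scheme.{u}} [X.Over (Spec (CommRingCat.of A))] (U : X.Opens) (a : A) :
    ChiCech.str A U a = sc (X ↘ Spec (CommRingCat.of A)) U a := by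
  have h := Scheme.Hom.appLE_map (X ↘ Spec (CommRingCat.of A)) (U := ⊤) (V := ⊤) (V' := U)
    (e := le_rfl) (homOfLE (le_top : U ≤ ⊤)).op
  rw [sc, ← h]
  rw [ChiCech.str, Coh.toGlobal, Scheme.Hom.appTop, Scheme.Hom.app_eq_appLE]
  rfl

/-- A section on the intersection as an element of the Cech module. -/
theorem fL_smul (k : A) (s : Γ(E W, oU W ⊓ oC W)) :
    fL W (ChiCech.str A (oU W ⊓ oC W) k * s) = iL W k * fL W s := by
  rw [map_mul, str_eq_sc]
  congr 1
  exact fL_sc W k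

/-- The Cech differential for functions. -/
theorem cechD_eq {X : Scheme.{u}} [X.Over (Spec (CommRingCat.of A))] (U V : X.Opens) (a : Γ(X, U)) (b : Γ(X, V)) :
    (ChiCech.cechD A (Coh.structureModule X) U V
      ((show ChiCech.SecA A (Coh.structureModule X) U from a),
        (show ChiCech.SecA A (Coh.structureModule X) V from b))) =
      (show ChiCech.SecA A (Coh.structureModule X) (U ⊓ V) from
        (X.presheaf.map (homOfLE (inf_le_left : U ⊓ V ≤ U)).op a -
          X.presheaf.map (homOfLE (inf_le_right : U ⊓ V ≤ V)).op b : Γ(X, U ⊓ V))) := rfl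

theorem mem_range_cechD {X : Scheme.{u}} [X.Over (Spec (CommRingCat.of A))] (U V : X.Opens) (s : Γ(X, U ⊓ V)) :
    (show ChiCech.SecA A (Coh.structureModule X) (U ⊓ V) from s) ∈
      LinearMap.range (ChiCech.cechD A (Coh.structureModule X) U V) ↔
      ∃ (a : Γ(X, U)) (b : Γ(X, V)), X.presheaf.map (homOfLE (inf_le_left : U ⊓ V ≤ U)).op a -
          X.presheaf.map (homOfLE (inf_le_right : U ⊓ V ≤ V)).op b = s := by
  constructor
  · rintro ⟨⟨a, b⟩, hab⟩
    exact ⟨a, b, hab⟩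
  · rintro ⟨a, b, hab⟩
    exact ⟨((show ChiCech.SecA A (Coh.structureModule X) U from a),
        (show ChiCech.SecA A (Coh.structureModule X) V from b)), hab⟩

theorem fL_sub (a : Γ(E W, oU W)) (b : Γ(E W, oC W)) :
    fL W ((E W).presheaf.map (homOfLE (inf_le_left : oU W ⊓ oC W ≤ oU W)).op a -
      (E W).presheaf.map (homOfLE (inf_le_right : oU W ⊓ oC W ≤ oC W)).op b) =
      algebraMap (RU W) (RL W) (fU W a) - resC W (fC W b) :=
  ((fL W).map_sub _ _).trans (congrArg₂ (fun s t => s - t) (fL_resU W a) (fL_resC W b))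

/-- The Cech description of `H¹(E_W, O)`. -/
theorem mem_range_iff (s : Γ(E W, oU W ⊓ oC W)) :
    (show ChiCech.SecA A (Coh.structureModule (E W)) (oU W ⊓ oC W) from s) ∈
      LinearMap.range (ChiCech.cechD A (Coh.structureModule (E W)) (oU W) (oC W)) ↔
      ∃ (u : RU W) (c : RC W), fL W s = algebraMap (RU W) (RL W) u + resC W c := by
  refine (mem_range_cechD (oU W) (oC W) s).trans ?_
  constructor
  · rintro ⟨a, b, hab⟩
    refine ⟨fU W a, -fC W b, ?_⟩
    rw [RingHom.map_neg, ← sub_eq_add_neg, ← fL_sub]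
    exact congrArg (fL W) hab.symm
  · rintro ⟨u, c, h⟩
    obtain ⟨a, rfl⟩ := (fU_bijective W).2 u
    obtain ⟨b, hb⟩ := (fC_bijective W).2 (-c)
    refine ⟨a, b, (fL_bijective W).1 ?_⟩
    rw [fL_sub, hb, RingHom.map_neg, h, sub_neg_eq_add]

/-- **`H¹(E_W, O) ≅ A`.** -/
theorem nonempty_H1 [Nontrivial A] :
    Nonempty (A ≃ₗ[A] Coh.HH (E W) (Coh.structureModule (E W)) 1) := by
  obtain ⟨s₀, hs₀⟩ := (fL_bijective W).2 (zL W ^ 2 * yL W)
  let σ₀ : ChiCech.SecA A (Coh.structureModule (E W)) (oU W ⊓ oC W) := s₀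
  let π := ChiCech.h1Map A (Coh.structureModule (E W)) (sup_eq W)
  have hπs : Function.Surjective π :=
    ChiCech.h1Map_surjective A _ (Groth.Agent.CurvesC.UnitCoh.isQCoh_unit _) (sup_eq W)
      (isAffineOpen_opensRange (ιU W)) (isAffineOpen_opensRange (ιC W))
  have hker : LinearMap.ker π = _ := ChiCech.ker_h1Map A (Coh.structureModule (E W)) (sup_eq W)
  refine ⟨LinearEquiv.ofBijective (LinearMap.toSpanSingleton A _ (π σ₀)) ⟨?_, ?_⟩⟩
  · rw [← LinearMap.ker_eq_bot, LinearMap.ker_eq_bot']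
    intro k hk
    rw [LinearMap.toSpanSingleton_apply, ← map_smul, ← LinearMap.mem_ker, hker] at hk
    have h1 := (mem_range_iff W (ChiCech.str A (oU W ⊓ oC W) k * s₀)).mp hk
    obtain ⟨u, c, h⟩ := h1
    rw [fL_smul, hs₀] at h
    refine WeiAlg.eq_zero_of_relation W (-u) (-c) k ?_
    rw [map_neg, map_neg, h]; ring
  · intro x
    obtain ⟨t, rfl⟩ := hπs x
    let t' : Γ(E W, oU W ⊓ oC W) := t
    obtain ⟨u, c, k, h⟩ := WeiAlg.exists_decomp W (fL W t')
    refine ⟨k, ?_⟩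
    rw [LinearMap.toSpanSingleton_apply, ← map_smul, ← sub_eq_zero, ← map_sub, ← LinearMap.mem_ker, hker]
    refine (mem_range_iff W ((ChiCech.str A (oU W ⊓ oC W) k * s₀ : Γ(E W, oU W ⊓ oC W)) - t')).mpr ⟨-u, -c, ?_⟩
    rw [map_sub, fL_smul, hs₀, h, map_neg, map_neg]
    ring

/-- The rank of `H¹(E_W, O)` is one. -/
theorem finrank_H1 [Nontrivial A] :
    Module.finrank A (Coh.HH (E W) (Coh.structureModule (E W)) 1) = 1 := by
  obtain ⟨e⟩ := nonempty_H1 W
  rw [← e.finrank_eq, Module.finrank_self]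

end K253.WeiCoh
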