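import Groth.Agent.CurvSt.K253.WeiSmooth
import Groth.Agent.CurvSt.K253.WeiCoh
import Groth.Agent.EllLift.K820.TheoremM
import Groth.Agent.CurvesB.VABaseChange
import Groth.Agent.FlatA.DimFin
import Groth.Agent.S1618
import Groth.Prelude.Def_ModFun
import Mathlib.RingTheory.KrullDimension.Polynomial
import Mathlib.RingTheory.KrullDimension.Field

/-!
# Fibres of the Weierstrass model (helper253)

Over a field the Weierstrass model is integral of dimension one with `h¹(O) = 1`; the Weierstrass
model with invertible discriminant is a family of smooth curves of genus one.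
-/

set_option autoImplicit false
universe u

open CategoryTheory CategoryTheory.Limits AlgebraicGeometry Opposite
open K820.EW Groth.Agent.VarietyA.Ell

namespace K253.WeiFib

section Domain

variable {A : Type u} [CommRing A] [IsDomain A] (W : WeierstrassCurve A)

instance isDomain_RU : IsDomain (RU W) :=
  inferInstanceAs (IsDomain (WeierstrassCurve.Affine.CoordinateRing W))

theorem yU_ne_zero : yU W ≠ 0 := by
  have h2 : (polU W).natDegree = 2 := WeierstrassCurve.Affine.natDegree_polynomial
  have h : AdjoinRoot.mk (polU W) Polynomial.X ≠ 0 := by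
    refine AdjoinRoot.mk_ne_zero_of_natDegree_lt (polU_monic W) Polynomial.X_ne_zero ?_
    rw [h2, Polynomial.natDegree_X]
    norm_num
  exact h

theorem powers_le : Submonoid.powers (yU W) ≤ nonZeroDivisors (RU W) :=
  powers_le_nonZeroDivisors_of_noZeroDivisors (yU_ne_zero W)

instance isDomain_RL : IsDomain (RL W) :=
  IsLocalization.isDomain_localization (powers_le W)

theorem algebraMap_injective : Function.Injective (algebraMap (RU W) (RL W)) :=
  IsLocalization.injective _ (powers_le W)

instance isDomain_RC : IsDomain (RC W) := (WeiAlg.resC_injective W).isDomain (resC W)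

/-- The generic point of the Weierstrass model. -/
noncomputable def gen : E W := ιU W (jU W (⟨⊥, Ideal.isPrime_bot⟩ : PrimeSpectrum (RL W)))

theorem gen_specializes (e : E W) : gen W ⤳ e := by
  rcases exists_preimage W e with ⟨y, rfl⟩ | ⟨y, rfl⟩
  · have h1 : (jU W (⟨⊥, Ideal.isPrime_bot⟩ : PrimeSpectrum (RL W))) ⤳ y := by
      have h2 : (PrimeSpectrum.comap (algebraMap (RU W) (RL W)) ⟨⊥, Ideal.isPrime_bot⟩ :
          PrimeSpectrum (RU W)) ≤ (y : PrimeSpectrum (RU W)) := by
        intro r hr
        have h3 : algebraMap (RU W) (RL W) r = 0 := hr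
        rw [(injective_iff_map_eq_zero _).mp (algebraMap_injective W) r h3]
        exact Ideal.zero_mem _
      exact (PrimeSpectrum.le_iff_specializes _ _).mp h2
    exact h1.map (ιU W).continuous
  · have h1 : (jC W (⟨⊥, Ideal.isPrime_bot⟩ : PrimeSpectrum (RL W))) ⤳ y := by
      have h2 : (PrimeSpectrum.comap (resC W) ⟨⊥, Ideal.isPrime_bot⟩ :
          PrimeSpectrum (RC W)) ≤ (y : PrimeSpectrum (RC W)) := by
        intro r hr
        have h3 : resC W r = 0 := hr
        rw [(injective_iff_map_eq_zero _).mp (WeiAlg.resC_injective W) r h3]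
        exact Ideal.zero_mem _
      exact (PrimeSpectrum.le_iff_specializes _ _).mp h2
    have h4 : gen W = ιC W (jC W (⟨⊥, Ideal.isPrime_bot⟩ : PrimeSpectrum (RL W))) := by
      rw [gen, ← Scheme.Hom.comp_apply, jU_ιU, Scheme.Hom.comp_apply]
    rw [h4]
    exact h1.map (ιC W).continuous

instance irreducibleSpace : IrreducibleSpace (E W) := by
  have h : closure {gen W} = Set.univ := by
    rw [Set.eq_univ_iff_forall]
    exact fun e => (gen_specializes W e).mem_closure
  have h1 : IsIrreducible (Set.univ : Set (E W)) := by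
    rw [← h]
    exact isIrreducible_singleton.closure
  exact irreducibleSpace_def _ |>.mpr h1

instance isReduced : IsReduced (E W) := by
  have : ∀ i, IsReduced ((cover W).X i) := by
    rintro (_ | _)
    · exact inferInstanceAs (IsReduced (Spec (CommRingCat.of (RU W))))
    · exact inferInstanceAs (IsReduced (Spec (CommRingCat.of (RC W))))
  exact IsReduced.of_openCover _ (cover W)

instance isIntegral : IsIntegral (E W) := isIntegral_of_irreducibleSpace_of_isReduced _

end Domain

section Field

variable {K : Type u} [Field K] (W : WeierstrassCurve K)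

attribute [local instance] WeiCoh.ov

theorem ringKrullDim_RU : ringKrullDim (RU W) = 1 := by
  have h1 : Module.Finite (Polynomial K) (RU W) := (polU_monic W).finite_adjoinRoot
  have hinj : Function.Injective (algebraMap (Polynomial K) (RU W)) := by
    have h2 : (polU W).natDegree = 2 := WeierstrassCurve.Affine.natDegree_polynomial
    refine AdjoinRoot.of.injective_of_degree_ne_zero ?_
    rw [Polynomial.degree_eq_natDegree (polU_monic W).ne_zero, h2]
    norm_num
  rw [Groth.Agent.FlatA.DimFin.ringKrullDim_eq_of_isIntegral_of_injective (Polynomial K) (RU W) hinj,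
    Polynomial.ringKrullDim_of_isNoetherianRing, ringKrullDim_eq_zero_of_field, zero_add]

theorem dim_eq_one : topologicalKrullDim (E W) = 1 := by
  have h1 : LocallyOfFiniteType (E W ↘ Spec (CommRingCat.of K)) := inferInstanceAs (LocallyOfFiniteType (str W))
  have h2 := Groth.Agent.S1618.result K (E W) (WeiCoh.oU W) ⟨gen W, ⟨_, rfl⟩⟩
  rw [← h2]
  have h3 : topologicalKrullDim (Spec (CommRingCat.of (RU W))) = 1 := by
    change topologicalKrullDim (PrimeSpectrum (RU W)) = 1
    rw [PrimeSpectrum.topologicalKrullDim_eq_ringKrullDim, ringKrullDim_RU]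
  rw [← h3]
  exact ((ιU W).isoOpensRange.hom.homeomorph.isHomeomorph.topologicalKrullDim_eq _).symm

theorem genus_eq_one : @Curv2.genus K _ (E W) ⟨str W⟩ = 1 := WeiCoh.finrank_H1 W

end Field

/-- The genus is invariant under isomorphisms. -/
theorem genus_eq_of_iso (k : Type u) [Field k] {X Y : Scheme.{u}} (p : X ⟶ Spec (CommRingCat.of k))
    (q : Y ⟶ Spec (CommRingCat.of k)) [IsProper q] (e : X ⟶ Y) [IsIso e] (h : e ≫ q = p) :
    @Curv2.genus k _ X ⟨p⟩ = @Curv2.genus k _ Y ⟨q⟩ := by
  let _ : X.Over (Spec (CommRingCat.of k)) := ⟨p⟩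
  let _ : Y.Over (Spec (CommRingCat.of k)) := ⟨q⟩
  have hid : Spec.map (CommRingCat.ofHom (algebraMap k k)) = 𝟙 (Spec (CommRingCat.of k)) := Spec.map_id _
  have hpb : IsPullback e (X ↘ Spec (CommRingCat.of k)) (Y ↘ Spec (CommRingCat.of k))
      (Spec.map (CommRingCat.ofHom (algebraMap k k))) := by
    rw [hid]
    exact IsPullback.of_horiz_isIso ⟨by rw [Category.comp_id]; exact h⟩
  have hY : IsProper (Y ↘ Spec (CommRingCat.of k)) := inferInstanceAs (IsProper q)
  exact Groth.Agent.CurvesB.VABaseChange.genus_eq hpb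

section Fibres

variable {A : Type u} [CommRing A] (W : WeierstrassCurve A)

/-- Every base change of a Weierstrass model to a field is a Weierstrass model. -/
theorem exists_iso_fibre {K : Type u} [CommRing K] (t : Spec (CommRingCat.of K) ⟶ Spec (CommRingCat.of A))
    {X' : Scheme.{u}} {g : X' ⟶ E W} {q' : X' ⟶ Spec (CommRingCat.of K)} (hP : IsPullback g q' (str W) t) :
    ∃ (φ : A →+* K) (e : X' ≅ E (W.map φ)), t = Spec.map (CommRingCat.ofHom φ) ∧
      e.hom ≫ str (W.map φ) = q' ∧ e.hom ≫ bc W φ = g := by
  obtain ⟨φ, rfl⟩ : ∃ φ : A →+* K, t = Spec.map (CommRingCat.ofHom φ) :=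
    ⟨(Spec.preimage t).hom, (Spec.map_preimage _).symm⟩
  have h := isPullback_bc W φ
  exact ⟨φ, hP.isoIsPullback _ _ h, rfl, hP.isoIsPullback_hom_snd _ _ h, hP.isoIsPullback_hom_fst _ _ h⟩

theorem fibre {K : Type u} [Field K] (t : Spec (CommRingCat.of K) ⟶ Spec (CommRingCat.of A))
    {X' : Scheme.{u}} {g : X' ⟶ E W} {q' : X' ⟶ Spec (CommRingCat.of K)} (hP : IsPullback g q' (str W) t) :
    IsIntegral X' ∧ topologicalKrullDim X' = 1 ∧ @Curv2.genus K _ X' ⟨q'⟩ = 1 := by
  obtain ⟨φ, e, -, h1, -⟩ := exists_iso_fibre W t hP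
  refine ⟨?_, ?_, ?_⟩
  · have : Nonempty X' := ⟨e.inv (gen (W.map φ))⟩
    exact isIntegral_of_isOpenImmersion e.hom
  · rw [← dim_eq_one (W.map φ)]
    exact e.hom.homeomorph.isHomeomorph.topologicalKrullDim_eq _
  · rw [← genus_eq_one (W.map φ)]
    have : IsProper (str (W.map φ)) := inferInstance
    exact genus_eq_of_iso K q' (str (W.map φ)) e.hom h1

/-- The fibres of the Weierstrass model are integral curves of genus one. -/
theorem ellFib : EllFib (str W) := fun _ _ t _ _ _ hP => fibre W t hP

instance geometricallyIrreducible : GeometricallyIrreducible (str W) :=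
  ⟨fun _ _ t _ _ _ hP => have := (fibre W t hP).1; inferInstance⟩

instance geometricallyIntegral : GeometricallyIntegral (str W) :=
  ⟨fun _ _ t _ _ _ hP => (fibre W t hP).1⟩

/-- **The Weierstrass model with invertible discriminant is a family of curves of genus one.** -/
theorem isCurveOfGenus (hΔ : IsUnit W.Δ) : ModFun.IsCurveOfGenus 1 (str W) :=
  ⟨WeiSmooth.smooth_str hΔ, inferInstance, inferInstance,
    fun _ _ _ t _ _ _ hP => (fibre W t hP).2⟩

end Fibres

end K253.WeiFib
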