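import Groth.Agent.CurvSt.K312.Stab
import Groth.Agent.CurvSt.K900.PtField

/-!
# The numerical inequality for connected marked nodal curves

A connected proper nodal curve over an algebraically closed field with marked points such that each smooth rational
component has three special points satisfies `3 ≤ 2 g + n`, unless `g = 1` and `n = 0`.
-/

set_option autoImplicit false
set_option maxHeartbeats 400000
universe u
open CategoryTheory CategoryTheory.Limits AlgebraicGeometry TopologicalSpace

namespace K253.Num

open K312.Marks K326.PtsDiv K326.SemiStab Groth.Agent.CurvesC.TailNum Groth.Agent.CurvesC.TailComp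
open Groth.Agent.CurvesC Groth.Agent.CurvesB Groth.Agent.CurvesC.TailGeom

attribute [local instance] subOver

variable {k : Type u} [Field k] [IsAlgClosed k] {X : Scheme.{u}} (q : X ⟶ Spec (CommRingCat.of k))

/-- If the genus is zero there are at least three marked points. -/
theorem three_le_card {M : Set X} (h : WS k q M) [ConnectedSpace X] (hf : M.Finite)
    (hg : @Curv2.genus k _ X ⟨q⟩ = 0) : 3 ≤ M.ncard := by
  letI : X.Over (Spec (CommRingCat.of k)) := ⟨q⟩
  have hP : IsProper (X ↘ (Spec (CommRingCat.of k))) := h.proper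
  have hX : Curv2.AtWorstNodal k X := h.nodal
  have hr : IsReduced X := GenusOne512.isReduced_of_atWorstNodal k X hX
  have hN : IsNoetherian X := CurveCoh.noetherianSpace k X
  have hdim : topologicalKrullDim X = 1 := topologicalKrullDim_of_pure h.pure
  have hg' : Curv2.genus k X = 0 := hg
  -- remove one point
  obtain ⟨M', hM'M, hcard, hone⟩ : ∃ M' : Set X, M' ⊆ M ∧ (M'.ncard = M.ncard - 1) ∧
      ∀ E : Set X, (M ∩ E).encard ≤ (M' ∩ E).encard + 1 := by
    rcases M.eq_empty_or_nonempty with rfl | ⟨a, ha⟩
    · exact ⟨∅, subset_rfl, by simp, fun E => by simp⟩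
    · refine ⟨M \ {a}, Set.sdiff_subset, Set.ncard_diff_singleton_of_mem ha, fun E => ?_⟩
      refine (Set.encard_le_encard (t := (M \ {a} ∩ E) ∪ {a}) ?_).trans
        ((Set.encard_union_le _ _).trans_eq (by rw [Set.encard_singleton]))
      rintro x ⟨hx, hxE⟩
      by_cases hxa : x = a
      · exact Or.inr hxa
      · exact Or.inl ⟨⟨hx, hxa⟩, hxE⟩
  have hf' : M'.Finite := hf.subset hM'M
  obtain ⟨n, p, hpi, hpr⟩ := hf'.fin_param
  have hn : n = M'.ncard := by
    rw [← hpr, ← Set.image_univ, Set.ncard_image_of_injective _ hpi, Set.ncard_univ, Nat.card_fin]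
  have hpM : ∀ i, p i ∈ M := fun i => hM'M (by rw [← hpr]; exact ⟨i, rfl⟩)
  have hp : Pts k n p := ⟨hpi, fun i => h.closed _ (hpM i), fun i => h.sm _ (hpM i)⟩
  obtain ⟨-, L, w, t, hw, ht, hT, -⟩ := K900.PtField.exists_tw k X hdim hX hp
  have hss : ∀ (E : Set X) (hE : E ∈ irreducibleComponents (X : Type u)),
      Subsingleton (Coh.HH (compIdeal E hE).subscheme (Coh.structureModule (compIdeal E hE).subscheme) 1) →
        2 ≤ spec X p E := by
    intro E hE h1
    have h2 := h.comp E (K896.TailBridge.isSmRatComp_of_h1 k X E hE (TailMain.pure_of_connected X hdim E hE) h1)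
    have hfin := (TailGeom.finite_inter hdim.le hE).1
    have h3 : (Sp X M E).encard ≤ (E ∩ closure Eᶜ).encard + ((M' ∩ E).encard + 1) := by
      refine (Set.encard_union_le _ _).trans ?_
      rw [K896.CompMeet.meetPts_eq hE]
      exact add_le_add le_rfl (hone E)
    have h4 : M' ∩ E = p '' (p ⁻¹' E) := by
      rw [Set.image_preimage_eq_inter_range, hpr, Set.inter_comm]
    rw [h4, hpi.encard_image, ← hfin.cast_ncard_eq, ← (Set.toFinite (p ⁻¹' E)).cast_ncard_eq] at h3
    have h5 : (3 : ℕ∞) ≤ ((E ∩ closure Eᶜ).ncard + ((p ⁻¹' E).ncard + 1) : ℕ) := by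
      exact_mod_cast h2.trans h3
    have h6 : 3 ≤ (E ∩ closure Eᶜ).ncard + ((p ⁻¹' E).ncard + 1) := by exact_mod_cast h5
    change 2 ≤ (E ∩ closure Eᶜ).ncard + (p ⁻¹' E).ncard
    omega
  have hgX : Curv2.genus k (⊥ : X.IdealSheafData).subscheme = Curv2.genus k X := by
    have h3 := finrank_quotMod k X (⊥ : X.IdealSheafData) 1
    rw [CanonGG.finrank_bot X k 1] at h3
    exact h3
  have hiso : IsIso (⊥ : X.IdealSheafData).subschemeι := inferInstance
  let e := (asIso (⊥ : X.IdealSheafData).subschemeι)
  have hred : IsReduced (⊥ : X.IdealSheafData).subscheme := isReduced_of_isOpenImmersion e.hom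
  have hconn : ConnectedSpace (⊥ : X.IdealSheafData).subscheme :=
    e.hom.homeomorph.symm.surjective.connectedSpace e.hom.homeomorph.symm.continuous
  have hd : topologicalKrullDim (⊥ : X.IdealSheafData).subscheme = 1 := by
    rw [← hdim]
    exact e.hom.homeomorph.isHomeomorph.topologicalKrullDim_eq
  have h1 := nonneg_of_genus_zero k X hdim hX hp w L hT hss ⊥ (hgX.trans hg')
  have h2 := deg_formula k X hdim hX hp w L hT ⊥ hd
  rw [h2, hgX, hg'] at h1
  have h3 : spec X p ((⊥ : X.IdealSheafData).support : Set X) = n := by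
    have h4 : ((⊥ : X.IdealSheafData).support : Set X) = Set.univ := by
      rw [Scheme.IdealSheafData.support_bot]
      rfl
    rw [h4]
    change (Set.univ ∩ closure Set.univᶜ).ncard + (p ⁻¹' Set.univ).ncard = n
    rw [Set.compl_univ, closure_empty, Set.inter_empty, Set.ncard_empty, Set.preimage_univ, Set.ncard_univ,
      Nat.card_fin, zero_add]
  rw [h3] at h1
  push_cast at h1
  omega

/-- **The numerical inequality** for connected marked nodal curves. -/
theorem three_le {M : Set X} (h : WS k q M) [ConnectedSpace X] (hM : M.Nonempty) (hf : M.Finite) :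
    3 ≤ 2 * @Curv2.genus k _ X ⟨q⟩ + M.ncard := by
  rcases Nat.eq_zero_or_pos (@Curv2.genus k _ X ⟨q⟩) with hg | hg
  · have := three_le_card q h hf hg
    omega
  · have := (Set.ncard_pos hf).mpr hM
    omega

/-- Without marked points the genus is positive. -/
theorem genus_pos_of_empty (h : WS k q (∅ : Set X)) [ConnectedSpace X] : 0 < @Curv2.genus k _ X ⟨q⟩ := by
  rcases Nat.eq_zero_or_pos (@Curv2.genus k _ X ⟨q⟩) with hg | hg
  · have := three_le_card q h Set.finite_empty hg
    simp at this
  · exact hg

/-- With at most two marked points the genus is positive. -/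
theorem genus_pos {M : Set X} (h : WS k q M) [ConnectedSpace X] (hf : M.Finite) (hM : M.ncard ≤ 2) :
    0 < @Curv2.genus k _ X ⟨q⟩ := by
  rcases Nat.eq_zero_or_pos (@Curv2.genus k _ X ⟨q⟩) with hg | hg
  · have := three_le_card q h hf hg
    omega
  · exact hg

end K253.Num
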