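import Groth.Agent.EllLift.K820.Charts
import Groth.Agent.EllLift.K820.ModelBC
import Mathlib.Algebra.Polynomial.Reverse
import Mathlib.RingTheory.AdjoinRoot

/-!
# The two charts of a Weierstrass curve: monomial bases (helper253)

`RC W` is free over `A[w]` on `1, z, z²`; `RU W` is spanned over `A[y]` by `1, x, x²`; hence
`RL W = RU W + RC W + A z²y`, the sum with `A z² y` is direct and `RU W ∩ RC W = A`.
(This is `H¹(E_W, O) = A`, `H⁰(E_W, O) = A`.)
-/

set_option autoImplicit false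
universe u

open Polynomial
open K820.EW Groth.Agent.VarietyA.Ell

namespace K253.WeiAlg

variable {A : Type u} [CommRing A] (W : WeierstrassCurve A)

/-- `p₀(w) + p₁(w) z + p₂(w) z²` -/
noncomputable def formC (p₀ p₁ p₂ : A[X]) : RC W :=
  AdjoinRoot.of _ p₀ + AdjoinRoot.of _ p₁ * zC W + AdjoinRoot.of _ p₂ * zC W ^ 2

theorem formC_eq_mk (p₀ p₁ p₂ : A[X]) :
    formC W p₀ p₁ p₂ = AdjoinRoot.mk (polC W) (C p₂ * X ^ 2 + C p₁ * X + C p₀) := by
  simp only [formC, zC, map_add, map_mul, map_pow, AdjoinRoot.mk_C, AdjoinRoot.mk_X]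
  ring

theorem exists_formC [Nontrivial A] (r : RC W) : ∃ p₀ p₁ p₂ : A[X], r = formC W p₀ p₁ p₂ := by
  obtain ⟨g, rfl⟩ := AdjoinRoot.mk_surjective r
  have hnd : (polC W).natDegree = 3 := by
    unfold polC
    compute_degree!
  have h1 : AdjoinRoot.mk (polC W) g = AdjoinRoot.mk (polC W) (g %ₘ polC W) := by
    have h2 := modByMonic_add_div g (polC W)
    conv_lhs => rw [← h2]
    rw [map_add, map_mul, AdjoinRoot.mk_self, zero_mul, add_zero]
  have h3 : (g %ₘ polC W).degree < 3 := by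
    have := degree_modByMonic_lt g (polC_monic W)
    rwa [degree_eq_natDegree (polC_monic W).ne_zero, hnd] at this
  have h4 : g %ₘ polC W = C ((g %ₘ polC W).coeff 2) * X ^ 2 + C ((g %ₘ polC W).coeff 1) * X +
      C ((g %ₘ polC W).coeff 0) := by
    have h5 := as_sum_range_C_mul_X_pow' (g %ₘ polC W) (n := 3) (by
      by_cases h0 : g %ₘ polC W = 0
      · rw [h0]; simp
      · rw [degree_eq_natDegree h0] at h3
        exact_mod_cast h3)
    conv_lhs => rw [h5]
    simp only [Finset.sum_range_succ, Finset.sum_range_zero, pow_zero, pow_one, mul_one]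
    ring
  refine ⟨(g %ₘ polC W).coeff 0, (g %ₘ polC W).coeff 1, (g %ₘ polC W).coeff 2, ?_⟩
  rw [h1, formC_eq_mk, ← h4]

theorem formC_eq_zero [Nontrivial A] {p₀ p₁ p₂ : A[X]} (h : formC W p₀ p₁ p₂ = 0) :
    p₀ = 0 ∧ p₁ = 0 ∧ p₂ = 0 := by
  rw [formC_eq_mk] at h
  have hnd : (polC W).natDegree = 3 := by
    unfold polC
    compute_degree!
  have h1 : (C p₂ * X ^ 2 + C p₁ * X + C p₀ : A[X][X]) = 0 := by
    by_contra h0
    refine AdjoinRoot.mk_ne_zero_of_natDegree_lt (polC_monic W) h0 ?_ h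
    rw [hnd]
    exact lt_of_le_of_lt natDegree_quadratic_le (by norm_num)
  refine ⟨?_, ?_, ?_⟩
  · simpa using congrArg (fun t => coeff t 0) h1
  · simpa using congrArg (fun t => coeff t 1) h1
  · simpa using congrArg (fun t => coeff t 2) h1

theorem wC_mul_formC (p₀ p₁ p₂ : A[X]) :
    wC W * formC W p₀ p₁ p₂ = formC W (X * p₀) (X * p₁) (X * p₂) := by
  simp only [formC, wC, map_mul]
  ring

theorem eq_zero_of_wC_mul [Nontrivial A] {r : RC W} (h : wC W * r = 0) : r = 0 := by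
  obtain ⟨p₀, p₁, p₂, rfl⟩ := exists_formC W r
  rw [wC_mul_formC] at h
  obtain ⟨h0, h1, h2⟩ := formC_eq_zero W h
  rw [(X_mul_cancel' h0), (X_mul_cancel' h1), (X_mul_cancel' h2)]
  simp [formC]
where
  X_mul_cancel' {p : A[X]} (h : X * p = 0) : p = 0 := by
    ext n
    have := congrArg (fun t => coeff t (n + 1)) h
    simpa using this

theorem resC_injective [Nontrivial A] : Function.Injective (resC W) := by
  let _ : Algebra (RC W) (RL W) := (resC W).toAlgebra
  have hloc := isLocalization_resC W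
  have h0 : ∀ n : ℕ, ∀ r : RC W, wC W ^ n * r = 0 → r = 0 := by
    intro n
    induction n with
    | zero => intro r h; simpa using h
    | succ n ih =>
      intro r h
      rw [pow_succ', mul_assoc] at h
      exact ih r (eq_zero_of_wC_mul W h)
  rw [injective_iff_map_eq_zero]
  intro r hr
  have hr' : algebraMap (RC W) (RL W) r = algebraMap (RC W) (RL W) 0 := by
    rw [map_zero]; exact hr
  obtain ⟨⟨_, ⟨n, rfl⟩⟩, hc⟩ := (IsLocalization.eq_iff_exists (Submonoid.powers (wC W)) (RL W)).mp hr'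
  rw [mul_zero] at hc
  exact h0 n r hc

/-! ### The affine chart -/

/-- `q(y)` -/
noncomputable def evU (q : A[X]) : RU W := q.eval₂ (iU W) (yU W)

theorem evU_add (p q : A[X]) : evU W (p + q) = evU W p + evU W q := eval₂_add _ _

theorem evU_mul (p q : A[X]) : evU W (p * q) = evU W p * evU W q := eval₂_mul _ _

theorem evU_C (a : A) : evU W (C a) = iU W a := eval₂_C _ _

theorem evU_X : evU W X = yU W := eval₂_X _ _

theorem evU_sub (p q : A[X]) : evU W (p - q) = evU W p - evU W q := eval₂_sub _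

/-- `q₀(y) + x q₁(y) + x² q₂(y)` -/
noncomputable def formU (q₀ q₁ q₂ : A[X]) : RU W :=
  evU W q₀ + xU W * evU W q₁ + xU W ^ 2 * evU W q₂

theorem formU_add (p₀ p₁ p₂ q₀ q₁ q₂ : A[X]) :
    formU W p₀ p₁ p₂ + formU W q₀ q₁ q₂ = formU W (p₀ + q₀) (p₁ + q₁) (p₂ + q₂) := by
  simp only [formU, evU_add]; ring

theorem iU_mul_formU (a : A) (q₀ q₁ q₂ : A[X]) :
    iU W a * formU W q₀ q₁ q₂ = formU W (C a * q₀) (C a * q₁) (C a * q₂) := by
  simp only [formU, evU_mul, evU_C]; ring

theorem yU_mul_formU (q₀ q₁ q₂ : A[X]) :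
    yU W * formU W q₀ q₁ q₂ = formU W (X * q₀) (X * q₁) (X * q₂) := by
  simp only [formU, evU_mul, evU_X]; ring

theorem xU_mul_formU (q₀ q₁ q₂ : A[X]) :
    xU W * formU W q₀ q₁ q₂ = formU W ((X ^ 2 + C W.a₃ * X - C W.a₆) * q₂)
      (q₀ + (C W.a₁ * X - C W.a₄) * q₂) (q₁ - C W.a₂ * q₂) := by
  have h := wEq_U W
  unfold WEq at h
  have hx : evU W (X ^ 2) = yU W ^ 2 := by rw [pow_two, evU_mul, evU_X]; ring
  simp only [formU, evU_mul, evU_add, evU_sub, evU_C, evU_X, hx]
  linear_combination -(evU W q₂) * h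

theorem exists_formU (r : RU W) : ∃ q₀ q₁ q₂ : A[X], r = formU W q₀ q₁ q₂ := by
  let S : AddSubgroup (RU W) :=
    { carrier := {r | ∃ q₀ q₁ q₂ : A[X], r = formU W q₀ q₁ q₂}
      zero_mem' := ⟨0, 0, 0, by simp [formU, evU]⟩
      add_mem' := by
        rintro _ _ ⟨p₀, p₁, p₂, rfl⟩ ⟨q₀, q₁, q₂, rfl⟩
        exact ⟨_, _, _, formU_add W _ _ _ _ _ _⟩
      neg_mem' := by
        rintro _ ⟨p₀, p₁, p₂, rfl⟩
        refine ⟨-p₀, -p₁, -p₂, ?_⟩
        simp only [formU, evU, eval₂_neg]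
        ring }
  have hi : ∀ (a : A) (s : RU W), s ∈ S → iU W a * s ∈ S := by
    rintro a _ ⟨p₀, p₁, p₂, rfl⟩
    exact ⟨_, _, _, iU_mul_formU W _ _ _ _⟩
  have hy : ∀ s : RU W, s ∈ S → yU W * s ∈ S := by
    rintro _ ⟨p₀, p₁, p₂, rfl⟩
    exact ⟨_, _, _, yU_mul_formU W _ _ _⟩
  have hx : ∀ s : RU W, s ∈ S → xU W * s ∈ S := by
    rintro _ ⟨p₀, p₁, p₂, rfl⟩
    exact ⟨_, _, _, xU_mul_formU W _ _ _⟩
  have hp : ∀ (p : A[X]) (s : RU W), s ∈ S → AdjoinRoot.of (polU W) p * s ∈ S := by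
    intro p
    induction p using Polynomial.induction_on' with
    | add p q hp hq =>
      intro s hs
      rw [map_add, add_mul]
      exact S.add_mem (hp s hs) (hq s hs)
    | monomial n a =>
      induction n with
      | zero =>
        intro s hs
        exact hi a s hs
      | succ n ih =>
        intro s hs
        have h1 : AdjoinRoot.of (polU W) (monomial (n + 1) a) =
            AdjoinRoot.of (polU W) (monomial n a) * xU W := by
          rw [xU, ← map_mul, monomial_mul_X]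
        rw [h1, mul_assoc]
        exact ih _ (hx s hs)
  have h1 : (1 : RU W) ∈ S := ⟨1, 0, 0, by simp [formU, evU]⟩
  obtain ⟨g, rfl⟩ := AdjoinRoot.mk_surjective r
  change AdjoinRoot.mk (polU W) g ∈ S
  have key : ∀ (g : A[X][X]) (s : RU W), s ∈ S → AdjoinRoot.mk (polU W) g * s ∈ S := by
    intro g
    induction g using Polynomial.induction_on' with
    | add p q hp hq =>
      intro s hs
      rw [map_add, add_mul]
      exact S.add_mem (hp s hs) (hq s hs)
    | monomial n a =>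
      induction n with
      | zero =>
        intro s hs
        exact hp a s hs
      | succ n ih =>
        intro s hs
        have h1 : AdjoinRoot.mk (polU W) (monomial (n + 1) a) =
            AdjoinRoot.mk (polU W) (monomial n a) * yU W := by
          have : yU W = AdjoinRoot.mk (polU W) X := (AdjoinRoot.mk_X (f := polU W)).symm
          rw [this, ← map_mul, monomial_mul_X]
        rw [h1, mul_assoc]
        exact ih _ (hy s hs)
  have := key g 1 h1
  rwa [mul_one] at this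

/-! ### The intersection -/

/-- `p(w)` in the intersection -/
noncomputable def evw (p : A[X]) : RL W := p.eval₂ (iL W) (wL W)

/-- `q(y)` in the intersection -/
noncomputable def evy (p : A[X]) : RL W := p.eval₂ (iL W) (yL W)

theorem alg_evU (p : A[X]) : algebraMap (RU W) (RL W) (evU W p) = evy W p := by
  rw [evU, evy, hom_eval₂]
  rfl

theorem resC_of (p : A[X]) : resC W (AdjoinRoot.of _ p) = evw W p := by
  rw [of_polC]
  change resC W (p.eval₂ (iC W) (wC W)) = _
  rw [hom_eval₂, resC_w, resC_comp']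
  rfl
where
  resC_comp' : (resC W).comp (iC W) = iL W := liftC_comp _ _ _ _

theorem resC_formC (p₀ p₁ p₂ : A[X]) :
    resC W (formC W p₀ p₁ p₂) = evw W p₀ + evw W p₁ * zL W + evw W p₂ * zL W ^ 2 := by
  simp only [formC, map_add, map_mul, map_pow, resC_of, resC_z]

theorem alg_formU (q₀ q₁ q₂ : A[X]) :
    algebraMap (RU W) (RL W) (formU W q₀ q₁ q₂) =
      evy W q₀ + xL W * evy W q₁ + xL W ^ 2 * evy W q₂ := by
  simp only [formU, map_add, map_mul, map_pow, alg_evU]
  rfl

theorem evw_eq (p : A[X]) : evw W p = iL W (p.coeff 0) + wL W * evw W p.divX := by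
  conv_lhs => rw [← divX_mul_X_add p]
  simp only [evw, eval₂_add, eval₂_mul, eval₂_X, eval₂_C]
  ring

theorem evy_eq (p : A[X]) : evy W p = iL W (p.coeff 0) + yL W * evy W p.divX := by
  conv_lhs => rw [← divX_mul_X_add p]
  simp only [evy, eval₂_add, eval₂_mul, eval₂_X, eval₂_C]
  ring

/-- `p(w) y^n = r(w) + y q(y)`. -/
theorem exists_split (p : A[X]) (n : ℕ) :
    ∃ r q : A[X], evw W p * yL W ^ n = evw W r + yL W * evy W q := by
  induction n with
  | zero => exact ⟨p, 0, by simp [evy]⟩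
  | succ n ih =>
    obtain ⟨r, q, h⟩ := ih
    refine ⟨r.divX, X * q + C (r.coeff 0), ?_⟩
    have h1 : evy W (X * q + C (r.coeff 0)) = yL W * evy W q + iL W (r.coeff 0) := by
      simp only [evy, eval₂_add, eval₂_mul, eval₂_X, eval₂_C]
    have h2 := wL_mul W
    rw [pow_succ, ← mul_assoc, h, h1, evw_eq W r]
    linear_combination evw W r.divX * h2

/-- `RL = RU + RC + A z²y` -/
theorem exists_decomp [Nontrivial A] (h : RL W) :
    ∃ (u : RU W) (c : RC W) (k : A),
      h = algebraMap (RU W) (RL W) u + resC W c + iL W k * (zL W ^ 2 * yL W) := by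
  let _ : Algebra (RC W) (RL W) := (resC W).toAlgebra
  have hloc := isLocalization_resC W
  obtain ⟨n, r, hr⟩ := IsLocalization.Away.surj (wC W) h
  obtain ⟨p₀, p₁, p₂, rfl⟩ := exists_formC W r
  have hr' : h * wL W ^ n = evw W p₀ + evw W p₁ * zL W + evw W p₂ * zL W ^ 2 := by
    rw [← resC_formC, ← resC_w]
    exact hr
  have hwy := wL_mul W
  have hwyn : wL W ^ n * yL W ^ n = 1 := by rw [← mul_pow, hwy, one_pow]
  obtain ⟨r₀, q₀, e₀⟩ := exists_split W p₀ n
  obtain ⟨r₁, q₁, e₁⟩ := exists_split W p₁ n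
  obtain ⟨r₂, q₂, e₂⟩ := exists_split W p₂ n
  have hzy := zL_mul W
  refine ⟨formU W (X * q₀) q₁ q₂.divX, formC W r₀ r₁ r₂, q₂.coeff 0, ?_⟩
  have h1 : h = (evw W p₀ * yL W ^ n) + (evw W p₁ * yL W ^ n) * zL W + (evw W p₂ * yL W ^ n) * zL W ^ 2 := by
    have : h = h * wL W ^ n * yL W ^ n := by rw [mul_assoc, hwyn, mul_one]
    rw [this, hr']
    ring
  have h2 : evy W (X * q₀) = yL W * evy W q₀ := by simp only [evy, eval₂_mul, eval₂_X]
  rw [h1, e₀, e₁, e₂, alg_formU, resC_formC, h2, evy_eq W q₂]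
  linear_combination (evy W q₁ + (evy W q₂.divX) * (zL W * yL W + xL W)) * hzy

theorem evy_mul_pow (q : A[X]) (N : ℕ) (hq : q.natDegree ≤ N) :
    evy W q * wL W ^ N = evw W (reflect N q) := by
  let _ : Invertible (yL W) := ⟨wL W, wL_mul W, by rw [mul_comm]; exact wL_mul W⟩
  have h1 := eval₂_reflect_mul_pow (iL W) (yL W) N q hq
  have h2 : ⅟(yL W) = wL W := rfl
  rw [h2] at h1
  have hwy : yL W ^ N * wL W ^ N = 1 := by rw [← mul_pow, mul_comm, wL_mul, one_pow]
  rw [evy, ← h1, mul_assoc, hwy, mul_one]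
  rfl

theorem key_relation [Nontrivial A] (q₀ q₁ q₂ p₀ p₁ p₂ : A[X]) (k : A) (N : ℕ) (h₀ : q₀.natDegree ≤ N)
    (h₁ : q₁.natDegree ≤ N) (h₂ : q₂.natDegree ≤ N)
    (h : algebraMap (RU W) (RL W) (formU W q₀ q₁ q₂) + resC W (formC W p₀ p₁ p₂) +
      iL W k * (zL W ^ 2 * yL W) = 0) :
    X ^ 2 * reflect N q₀ + X ^ (N + 2) * p₀ = 0 ∧ X * reflect N q₁ + X ^ (N + 2) * p₁ = 0 ∧
      reflect N q₂ + X ^ (N + 2) * p₂ + C k * X ^ (N + 1) = 0 := by
  apply formC_eq_zero W
  apply resC_injective W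
  rw [map_zero, resC_formC]
  have e₀ := evy_mul_pow W q₀ N h₀
  have e₁ := evy_mul_pow W q₁ N h₁
  have e₂ := evy_mul_pow W q₂ N h₂
  have hwy := wL_mul W
  have hzy := zL_mul W
  have hxw : xL W * wL W = zL W := by rw [← hzy]; linear_combination zL W * hwy
  have a1 : evw W (X ^ 2 * reflect N q₀ + X ^ (N + 2) * p₀) =
      wL W ^ 2 * evw W (reflect N q₀) + wL W ^ (N + 2) * evw W p₀ := by
    simp only [evw, eval₂_add, eval₂_mul, eval₂_X_pow]
  have a2 : evw W (X * reflect N q₁ + X ^ (N + 2) * p₁) =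
      wL W * evw W (reflect N q₁) + wL W ^ (N + 2) * evw W p₁ := by
    simp only [evw, eval₂_add, eval₂_mul, eval₂_X_pow, eval₂_X]
  have a3 : evw W (reflect N q₂ + X ^ (N + 2) * p₂ + C k * X ^ (N + 1)) =
      evw W (reflect N q₂) + wL W ^ (N + 2) * evw W p₂ + iL W k * wL W ^ (N + 1) := by
    simp only [evw, eval₂_add, eval₂_mul, eval₂_X_pow, eval₂_C]
  rw [alg_formU, resC_formC] at h
  rw [a1, a2, a3, ← e₀, ← e₁, ← e₂, ← hxw]
  rw [← hxw] at h
  linear_combination wL W ^ (N + 2) * h - iL W k * xL W ^ 2 * wL W ^ (N + 3) * hwy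

/-- `z²y ∉ RU + RC`. -/
theorem eq_zero_of_relation [Nontrivial A] (u : RU W) (c : RC W) (k : A)
    (h : algebraMap (RU W) (RL W) u + resC W c + iL W k * (zL W ^ 2 * yL W) = 0) : k = 0 := by
  obtain ⟨q₀, q₁, q₂, rfl⟩ := exists_formU W u
  obtain ⟨p₀, p₁, p₂, rfl⟩ := exists_formC W c
  let N := max q₀.natDegree (max q₁.natDegree q₂.natDegree)
  have h₀ : q₀.natDegree ≤ N := le_max_left _ _
  have h₁ : q₁.natDegree ≤ N := (le_max_left _ _).trans (le_max_right _ _)
  have h₂ : q₂.natDegree ≤ N := (le_max_right _ _).trans (le_max_right _ _)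
  obtain ⟨-, -, h3⟩ := key_relation W q₀ q₁ q₂ p₀ p₁ p₂ k N h₀ h₁ h₂ h
  have h4 := congrArg (fun t => coeff t (N + 1)) h3
  simp only [coeff_add, coeff_zero, coeff_C_mul, coeff_X_pow_self, mul_one, coeff_reflect] at h4
  have h5 : revAt N (N + 1) = N + 1 := revAt_eq_self_of_lt (Nat.lt_succ_self N)
  rw [h5, coeff_eq_zero_of_natDegree_lt (Nat.lt_succ_of_le h₂), coeff_X_pow_mul', if_neg (by omega)] at h4
  simpa using h4

/-- `RU ∩ RC = A`. -/
theorem exists_const [Nontrivial A] (u : RU W) (c : RC W)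
    (h : algebraMap (RU W) (RL W) u = resC W c) : ∃ a : A, u = iU W a := by
  obtain ⟨q₀, q₁, q₂, rfl⟩ := exists_formU W u
  obtain ⟨p₀, p₁, p₂, hc⟩ := exists_formC W (-c)
  let N := max q₀.natDegree (max q₁.natDegree q₂.natDegree)
  have h₀ : q₀.natDegree ≤ N := le_max_left _ _
  have h₁ : q₁.natDegree ≤ N := (le_max_left _ _).trans (le_max_right _ _)
  have h₂ : q₂.natDegree ≤ N := (le_max_right _ _).trans (le_max_right _ _)
  have h' : algebraMap (RU W) (RL W) (formU W q₀ q₁ q₂) + resC W (formC W p₀ p₁ p₂) +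
      iL W 0 * (zL W ^ 2 * yL W) = 0 := by
    rw [← hc, map_neg, h, map_zero]; ring
  obtain ⟨e0, e1, e2⟩ := key_relation W q₀ q₁ q₂ p₀ p₁ p₂ 0 N h₀ h₁ h₂ h'
  have hq0 : ∀ i, 0 < i → q₀.coeff i = 0 := by
    intro i hi
    rcases le_or_gt i N with hiN | hiN
    · have h4 := congrArg (fun t => coeff t (N - i + 2)) e0
      simp only [coeff_add, coeff_zero, coeff_X_pow_mul', coeff_reflect] at h4
      rw [if_pos (by omega), if_neg (by omega), add_zero, Nat.add_sub_cancel,
        revAt_le (Nat.sub_le N i)] at h4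
      rwa [show N - (N - i) = i by omega] at h4
    · exact coeff_eq_zero_of_natDegree_lt (lt_of_le_of_lt h₀ hiN)
  have hq1 : q₁ = 0 := by
    ext i
    rw [coeff_zero]
    rcases le_or_gt i N with hiN | hiN
    · have h4 := congrArg (fun t => coeff t (N - i + 1)) e1
      simp only [coeff_add, coeff_zero, coeff_X_pow_mul', coeff_X_mul, coeff_reflect] at h4
      rw [if_neg (by omega), add_zero, revAt_le (Nat.sub_le N i)] at h4
      rwa [show N - (N - i) = i by omega] at h4
    · exact coeff_eq_zero_of_natDegree_lt (lt_of_le_of_lt h₁ hiN)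
  have hq2 : q₂ = 0 := by
    ext i
    rw [coeff_zero]
    rcases le_or_gt i N with hiN | hiN
    · have h4 := congrArg (fun t => coeff t (N - i)) e2
      simp only [coeff_add, coeff_zero, coeff_X_pow_mul', map_zero, zero_mul, coeff_reflect] at h4
      rw [if_neg (by omega), add_zero, add_zero, revAt_le (Nat.sub_le N i)] at h4
      rwa [show N - (N - i) = i by omega] at h4
    · exact coeff_eq_zero_of_natDegree_lt (lt_of_le_of_lt h₂ hiN)
  refine ⟨q₀.coeff 0, ?_⟩
  have hq0' : q₀ = C (q₀.coeff 0) := by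
    ext i
    rcases Nat.eq_zero_or_pos i with rfl | hi
    · simp
    · rw [hq0 i hi, coeff_C, if_neg (by omega)]
  rw [formU, hq1, hq2, hq0']
  simp [evU]

end K253.WeiAlg
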