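import Groth.Agent.CurvSt.K253.WeiPt
import Groth.Agent.CurvSt.K508.FibPow

/-!
# The Weierstrass family (helper253)

The universal Weierstrass curve with invertible discriminant over `A[a₁, a₂, a₃, a₄, a₆, Δ⁻¹]` is a family of
one-pointed smooth curves of genus one over a smooth `A`-algebra, and every one-pointed smooth curve of genus one over
an algebraically closed field over `A` is a fibre of it (`complete`, `atlas`).
-/

set_option autoImplicit false
universe u

open CategoryTheory CategoryTheory.Limits AlgebraicGeometry Opposite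
open K820.EW Groth.Agent.VarietyA.Ell MvPolynomial

namespace K253.WeiFam

/-- The section at infinity is compatible with base change. -/
theorem zero_bc {A B : Type u} [CommRing A] [CommRing B] (W : WeierstrassCurve A) (φ : A →+* B) :
    zero (W.map φ) ≫ bc W φ = Spec.map (CommRingCat.ofHom φ) ≫ zero W := by
  rw [zero, zero, Category.assoc, ιC_bc, ← Spec.map_comp_assoc, ← Spec.map_comp_assoc]
  congr 2
  rw [← CommRingCat.ofHom_comp, ← CommRingCat.ofHom_comp]
  congr 1
  apply hom_ext_C
  · ext a
    change liftC _ _ _ (wEqInf_zero (W.map φ)) (bC W φ (iC W a)) = φ (liftC _ _ _ (wEqInf_zero W) (iC W a))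
    rw [bC_i, liftC_iC, liftC_iC]
    rfl
  · change liftC _ _ _ (wEqInf_zero (W.map φ)) (bC W φ (zC W)) = φ (liftC _ _ _ (wEqInf_zero W) (zC W))
    rw [bC_z, liftC_z, liftC_z, map_zero]
  · change liftC _ _ _ (wEqInf_zero (W.map φ)) (bC W φ (wC W)) = φ (liftC _ _ _ (wEqInf_zero W) (wC W))
    rw [bC_w, liftC_w, liftC_w, map_zero]

section Univ

variable (A : Type u) [CommRing A]

/-- The polynomial ring in the coefficients of a Weierstrass equation. -/
abbrev R₀ : Type u := MvPolynomial (Fin 5) A

/-- The universal Weierstrass curve. -/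
noncomputable def W₀ : WeierstrassCurve (R₀ A) := ⟨X 0, X 1, X 2, X 3, X 4⟩

/-- The base of the universal Weierstrass curve with invertible discriminant. -/
abbrev R : Type u := Localization.Away (W₀ A).Δ

/-- The universal Weierstrass curve with invertible discriminant. -/
noncomputable def Wu : WeierstrassCurve (R A) := (W₀ A).map (algebraMap (R₀ A) (R A))

theorem isUnit_Δ : IsUnit (Wu A).Δ := by
  rw [Wu, WeierstrassCurve.map_Δ]
  exact IsLocalization.Away.algebraMap_isUnit _

/-- The structure morphism of the base. -/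
noncomputable def base : Spec (CommRingCat.of (R A)) ⟶ Spec (CommRingCat.of A) :=
  Spec.map (CommRingCat.ofHom (algebraMap A (R A)))

instance finitePresentation : Algebra.FinitePresentation A (R A) :=
  have : Algebra.FinitePresentation (R₀ A) (R A) := IsLocalization.Away.finitePresentation (W₀ A).Δ
  Algebra.FinitePresentation.trans A (R₀ A) (R A)

instance smooth : Algebra.Smooth A (R A) :=
  have : Algebra.Smooth A (R₀ A) := {}
  have : Algebra.Smooth (R₀ A) (R A) := Algebra.Smooth.of_isLocalization_Away (W₀ A).Δ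
  Algebra.Smooth.comp A (R₀ A) (R A)

instance smooth_base : Smooth (base A) := by
  rw [base]
  refine (HasRingHomProperty.Spec_iff (P := @Smooth)).2 ?_
  exact (RingHom.smooth_algebraMap).2 inferInstance

variable {A}

/-- Every Weierstrass curve with invertible discriminant over an `A`-algebra comes from the universal one. -/
theorem exists_hom {B : Type u} [CommRing B] (φ : A →+* B) (W : WeierstrassCurve B) (hW : IsUnit W.Δ) :
    ∃ ψ : R A →+* B, ψ.comp (algebraMap A (R A)) = φ ∧ (Wu A).map ψ = W := by
  let χ : R₀ A →+* B := eval₂Hom φ ![W.a₁, W.a₂, W.a₃, W.a₄, W.a₆]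
  have hχ : (W₀ A).map χ = W := by
    ext
    · change χ (X 0) = _; simp [χ]
    · change χ (X 1) = _; simp [χ]
    · change χ (X 2) = _; simp [χ]
    · change χ (X 3) = _; simp [χ]
    · change χ (X 4) = _; simp [χ]
  have hu : IsUnit (χ (W₀ A).Δ) := by
    rw [← WeierstrassCurve.map_Δ, hχ]
    exact hW
  refine ⟨IsLocalization.Away.lift (W₀ A).Δ hu, ?_, ?_⟩
  · rw [IsScalarTower.algebraMap_eq A (R₀ A) (R A), ← RingHom.comp_assoc, IsLocalization.Away.lift_comp]
    ext a
    simp [χ]
  · rw [Wu, WeierstrassCurve.map_map, IsLocalization.Away.lift_comp, hχ]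

variable (A)

theorem Δ_ne_zero [Nontrivial A] : (W₀ A).Δ ≠ 0 := by
  intro h
  have key : ∀ W : WeierstrassCurve A, W.Δ = 0 := by
    intro W
    let χ : R₀ A →+* A := eval₂Hom (RingHom.id A) ![W.a₁, W.a₂, W.a₃, W.a₄, W.a₆]
    have hχ : (W₀ A).map χ = W := by
      ext
      · change χ (X 0) = _; simp [χ]
      · change χ (X 1) = _; simp [χ]
      · change χ (X 2) = _; simp [χ]
      · change χ (X 3) = _; simp [χ]
      · change χ (X 4) = _; simp [χ]
    rw [← hχ, WeierstrassCurve.map_Δ, h, map_zero]
  have h1 := key ⟨0, 0, 1, 0, 0⟩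
  have h2 := key ⟨0, 0, 0, -1, 0⟩
  simp only [WeierstrassCurve.Δ, WeierstrassCurve.b₂, WeierstrassCurve.b₄, WeierstrassCurve.b₆,
    WeierstrassCurve.b₈] at h1 h2
  have h3 : (1 : A) = 0 := by linear_combination (-19) * h1 + (-8) * h2
  exact one_ne_zero h3

instance isDomain [IsDomain A] : IsDomain (R A) :=
  IsLocalization.isDomain_localization (powers_le_nonZeroDivisors_of_noZeroDivisors (Δ_ne_zero A))

end Univ

variable (A : Type u) [CommRing A]

/-- The universal family of one-pointed curves of genus one. -/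
theorem isSmoothPtdFam : CurvSt.IsSmoothPtdFam (str (Wu A)) (fun _ : Fin 1 => zero (Wu A)) 1 :=
  ⟨WeiFib.isCurveOfGenus (Wu A) (isUnit_Δ A), fun i j h => absurd (Subsingleton.elim i j) h⟩

/-- **Every one-pointed smooth curve of genus one over an algebraically closed field is a fibre of the universal
Weierstrass family.** -/
theorem complete : K508.FibPow.Complete (base A) (str (Wu A)) (fun _ : Fin 1 => zero (Wu A)) 1 := by
  intro Ω _ _ t X q s hs h
  obtain ⟨φ, rfl⟩ : ∃ φ : A →+* Ω, t = Spec.map (CommRingCat.ofHom φ) :=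
    ⟨(Spec.preimage t).hom, (Spec.map_preimage _).symm⟩
  obtain ⟨W, hW, i, h1, h2⟩ := WeiPt.exists_iso_field q h.1 (s 0) (hs 0)
  obtain ⟨ψ, hψ, rfl⟩ := exists_hom φ W hW
  refine ⟨Spec.map (CommRingCat.ofHom ψ), i.hom ≫ bc (Wu A) ψ, ?_, ?_, ?_⟩
  · rw [base, ← Spec.map_comp, ← CommRingCat.ofHom_comp, hψ]
  · have h3 : IsPullback i.hom q (str ((Wu A).map ψ)) (𝟙 _) :=
      IsPullback.of_horiz_isIso ⟨by rw [h1, Category.comp_id]⟩
    have h4 := h3.paste_horiz (isPullback_bc (Wu A) ψ)
    rwa [Category.id_comp] at h4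
  · intro j
    obtain rfl : j = 0 := Subsingleton.elim _ _
    rw [← Category.assoc, h2, zero_bc]

/-- **A complete family of one-pointed curves of genus one over an irreducible base smooth over a domain.** -/
theorem atlas_of_isDomain [IsDomain A] : K508.FibPow.Atlas (Spec (CommRingCat.of A)) 1 1 :=
  ⟨Spec (CommRingCat.of (R A)), _, base A, str (Wu A), fun _ => zero (Wu A), fun _ => zero_str _, isSmoothPtdFam A,
    inferInstance, by rw [base]; infer_instance, inferInstanceAs (IrreducibleSpace (PrimeSpectrum (R A))), complete A⟩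

theorem atlas (k : Type u) [Field k] : K508.FibPow.Atlas (Spec (CommRingCat.of k)) 1 1 := atlas_of_isDomain k

end K253.WeiFam
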