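import Mathlib.AlgebraicGeometry.EllipticCurve.Weierstrass
import Mathlib.FieldTheory.IsAlgClosed.Basic

/-!
# A Weierstrass equation with discriminant zero has a singular point

Over an algebraically closed field a Weierstrass equation with `Δ = 0` has an affine singular point
(`K253.WeiSing.exists_singular`).
-/

set_option autoImplicit false
universe u

namespace K253.WeiSing

variable {k : Type u} [Field k] [IsAlgClosed k] (W : WeierstrassCurve k)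

theorem exists_of_two_ne_zero (h2 : (2 : k) ≠ 0) (hΔ : W.Δ = 0) :
    ∃ a b : k, b ^ 2 + W.a₁ * a * b + W.a₃ * b = a ^ 3 + W.a₂ * a ^ 2 + W.a₄ * a + W.a₆ ∧
      W.a₁ * b - (3 * a ^ 2 + 2 * W.a₂ * a + W.a₄) = 0 ∧ 2 * b + W.a₁ * a + W.a₃ = 0 := by
  have h4 : (4 : k) ≠ 0 := by
    have : (4 : k) = 2 * 2 := by norm_num
    rw [this]
    exact mul_ne_zero h2 h2
  let P := W.twoTorsionPolynomial
  have ha : P.a ≠ 0 := h4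
  have hd : P.discr = 0 := by
    rw [W.twoTorsionPolynomial_discr, hΔ, mul_zero]
  obtain ⟨x, y, z, h3⟩ := (Cubic.splits_iff_roots_eq_three (φ := RingHom.id k) ha).1
    (IsAlgClosed.splits (P.toPoly.map (RingHom.id k)))
  have key : ∃ x z : k, P.b = P.a * -(x + x + z) ∧ P.c = P.a * (x * x + x * z + x * z) ∧
      P.d = P.a * -(x * x * z) := by
    have e1 := Cubic.b_eq_three_roots ha h3
    have e2 := Cubic.c_eq_three_roots ha h3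
    have e3 := Cubic.d_eq_three_roots ha h3
    simp only [RingHom.id_apply] at e1 e2 e3
    have e4 := Cubic.discr_eq_prod_three_roots ha h3
    simp only [RingHom.id_apply, hd] at e4
    have e5 : P.a * P.a * (x - y) * (x - z) * (y - z) = 0 := by
      by_contra h
      exact h (pow_eq_zero_iff (two_ne_zero)|>.1 e4.symm)
    rcases mul_eq_zero.1 e5 with e6 | e6
    · rcases mul_eq_zero.1 e6 with e7 | e7
      · rcases mul_eq_zero.1 e7 with e8 | e8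
        · exact absurd e8 (mul_ne_zero ha ha)
        · obtain rfl := sub_eq_zero.1 e8
          exact ⟨x, z, e1, e2, e3⟩
      · obtain rfl := sub_eq_zero.1 e7
        exact ⟨x, y, by rw [e1]; ring, by rw [e2]; ring, by rw [e3]; ring⟩
    · obtain rfl := sub_eq_zero.1 e6
      exact ⟨y, x, by rw [e1]; ring, by rw [e2]; ring, by rw [e3]; ring⟩
  obtain ⟨x, z, e1, e2, e3⟩ := key
  change W.a₁ ^ 2 + 4 * W.a₂ = 4 * -(x + x + z) at e1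
  change 2 * (2 * W.a₄ + W.a₁ * W.a₃) = 4 * (x * x + x * z + x * z) at e2
  change W.a₃ ^ 2 + 4 * W.a₆ = 4 * -(x * x * z) at e3
  obtain ⟨b, hb⟩ : ∃ b : k, 2 * b = -(W.a₁ * x + W.a₃) := ⟨-(W.a₁ * x + W.a₃) / 2, by field_simp⟩
  refine ⟨x, b, ?_, ?_, ?_⟩
  · apply mul_left_cancel₀ h4
    linear_combination (2 * b + (W.a₁ * x + W.a₃)) * hb - x ^ 2 * e1 - x * e2 - e3
  · apply mul_left_cancel₀ h4
    linear_combination 2 * W.a₁ * hb - 2 * x * e1 - e2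
  · linear_combination hb

theorem exists_of_two_eq_zero (h2 : (2 : k) = 0) (hΔ : W.Δ = 0) :
    ∃ a b : k, b ^ 2 + W.a₁ * a * b + W.a₃ * b = a ^ 3 + W.a₂ * a ^ 2 + W.a₄ * a + W.a₆ ∧
      W.a₁ * b - (3 * a ^ 2 + 2 * W.a₂ * a + W.a₄) = 0 ∧ 2 * b + W.a₁ * a + W.a₃ = 0 := by
  rw [WeierstrassCurve.Δ, WeierstrassCurve.b₂, WeierstrassCurve.b₄, WeierstrassCurve.b₆, WeierstrassCurve.b₈] at hΔ
  by_cases h1 : W.a₁ = 0
  · have h3 : W.a₃ = 0 := by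
      have h4 : W.a₃ ^ 4 = 0 := by
        rw [h1] at hΔ
        linear_combination hΔ + (14 * W.a₃ ^ 4 + 108 * W.a₃ ^ 2 * W.a₆ + 216 * W.a₆ ^ 2 + 32 * W.a₄ ^ 3 +
          8 * W.a₂ ^ 2 * (4 * W.a₂ * W.a₆ + W.a₂ * W.a₃ ^ 2 - W.a₄ ^ 2) -
          36 * W.a₂ * W.a₄ * (W.a₃ ^ 2 + 4 * W.a₆)) * h2
      exact pow_eq_zero_iff (four_ne_zero) |>.1 h4
    obtain ⟨a, ha⟩ := IsAlgClosed.exists_pow_nat_eq W.a₄ (zero_lt_two)
    obtain ⟨b, hb⟩ := IsAlgClosed.exists_pow_nat_eq (a ^ 3 + W.a₂ * a ^ 2 + W.a₄ * a + W.a₆) (zero_lt_two)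
    refine ⟨a, b, ?_, ?_, ?_⟩
    · rw [h1, h3, hb]; ring
    · rw [h1]
      linear_combination ha - (2 * a ^ 2 + W.a₂ * a) * h2
    · rw [h1, h3]
      linear_combination b * h2
  · obtain ⟨a, ha⟩ : ∃ a : k, W.a₁ * a = -W.a₃ := ⟨-W.a₃ / W.a₁, by field_simp⟩
    obtain ⟨b, hb⟩ : ∃ b : k, W.a₁ * b = 3 * a ^ 2 + 2 * W.a₂ * a + W.a₄ :=
      ⟨(3 * a ^ 2 + 2 * W.a₂ * a + W.a₄) / W.a₁, by field_simp⟩
    have hb' : W.a₁ ^ 3 * b = 3 * W.a₃ ^ 2 - 2 * W.a₁ * W.a₂ * W.a₃ + W.a₁ ^ 2 * W.a₄ := by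
      linear_combination W.a₁ ^ 2 * hb + (3 * W.a₁ * a - 3 * W.a₃ + 2 * W.a₁ * W.a₂) * ha
    refine ⟨a, b, ?_, ?_, ?_⟩
    · apply mul_left_cancel₀ (pow_ne_zero 6 h1)
      have e1 : W.a₁ ^ 6 * b ^ 2 = (3 * W.a₃ ^ 2 - 2 * W.a₁ * W.a₂ * W.a₃ + W.a₁ ^ 2 * W.a₄) ^ 2 := by
        rw [← hb']; ring
      have e2 : W.a₁ ^ 3 * a ^ 3 = -W.a₃ ^ 3 := by
        rw [← mul_pow, ha]; ring
      have e3 : W.a₁ ^ 2 * a ^ 2 = W.a₃ ^ 2 := by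
        rw [← mul_pow, ha]; ring
      linear_combination e1 + W.a₁ ^ 6 * b * ha - W.a₁ ^ 3 * e2 - W.a₁ ^ 4 * W.a₂ * e3 - W.a₁ ^ 5 * W.a₄ * ha + hΔ +
        ((-72) * W.a₁ * W.a₂ * W.a₃ * W.a₆ + (-24) * W.a₁ * W.a₂ * W.a₃ ^ 3 + (-8) * W.a₁ * W.a₂ ^ 2 * W.a₃ * W.a₄ + (48) * W.a₁ * W.a₃ * W.a₄ ^ 2 + (-4) * W.a₁ ^ 2 * W.a₂ * W.a₄ ^ 2 + (6) * W.a₁ ^ 2 * W.a₂ ^ 2 * W.a₃ ^ 2 + (24) * W.a₁ ^ 2 * W.a₂ ^ 2 * W.a₆ + (18) * W.a₁ ^ 2 * W.a₃ ^ 2 * W.a₄ + (-36) * W.a₁ ^ 2 * W.a₄ * W.a₆ + (-6) * W.a₁ ^ 3 * W.a₂ * W.a₃ * W.a₄ + (-18) * W.a₁ ^ 3 * W.a₃ * W.a₆ + (6) * W.a₁ ^ 4 * W.a₂ * W.a₆ + (-36) * W.a₂ * W.a₃ ^ 2 * W.a₄ + (-144) * W.a₂ * W.a₄ * W.a₆ + (-8) * W.a₂ ^ 2 * W.a₄ ^ 2 + (8) * W.a₂ ^ 3 * W.a₃ ^ 2 + (32) * W.a₂ ^ 3 * W.a₆ + (108) * W.a₃ ^ 2 * W.a₆ + (18) * W.a₃ ^ 4 + (32) * W.a₄ ^ 3 + (216) * W.a₆ ^ 2) * h2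
    · linear_combination hb
    · linear_combination ha + b * h2

/-- A Weierstrass equation of discriminant zero over an algebraically closed field has an affine singular point. -/
theorem exists_singular (hΔ : W.Δ = 0) :
    ∃ a b : k, b ^ 2 + W.a₁ * a * b + W.a₃ * b = a ^ 3 + W.a₂ * a ^ 2 + W.a₄ * a + W.a₆ ∧
      W.a₁ * b - (3 * a ^ 2 + 2 * W.a₂ * a + W.a₄) = 0 ∧ 2 * b + W.a₁ * a + W.a₃ = 0 := by
  by_cases h2 : (2 : k) = 0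
  · exact exists_of_two_eq_zero W h2 hΔ
  · exact exists_of_two_ne_zero W h2 hΔ

end K253.WeiSing
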