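import Groth.Agent.CurvSt.K253.WeiFib
import Groth.Agent.CurvSt.K253.WeiSing
import Groth.Agent.EllLift.K820.SecLocal
import Groth.Agent.VarietyA.EllNonsing
import Groth.Agent.EssDim.K995.CurveBasic
import Groth.Agent.PicF.K247.RelDim

/-!
# Pointed curves of genus one are Weierstrass models (helper253)

* `isUnit_Δ`: the Weierstrass model over a ring is smooth only if the discriminant is a unit.
* `ellFib`: families of curves of genus one have fibres of genus one over all fields.
* `exists_iso_local`: a family of curves of genus one over an affine base with a section is, locally on the base, the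
  Weierstrass model of a Weierstrass curve with invertible discriminant, the section going to the section at infinity.
* `exists_iso_field`: the case of a field.
-/

set_option autoImplicit false
universe u

open CategoryTheory CategoryTheory.Limits AlgebraicGeometry Opposite
open K820.EW Groth.Agent.VarietyA.Ell

namespace K253.WeiPt

theorem smooth_iU {A : Type u} [CommRing A] (W : WeierstrassCurve A) [Smooth (str W)] : (iU W).Smooth := by
  have hs : Smooth (Spec.map (CommRingCat.ofHom (iU W))) := by rw [← ιU_str]; infer_instance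
  exact (HasRingHomProperty.Spec_iff (P := @Smooth)).1 hs

/-- A smooth Weierstrass model over an algebraically closed field has nonzero discriminant. -/
theorem Δ_ne_zero {k : Type u} [Field k] [IsAlgClosed k] (W : WeierstrassCurve k) [Smooth (str W)] :
    W.Δ ≠ 0 := by
  intro hΔ
  obtain ⟨a, b, h1, h2, h3⟩ := WeiSing.exists_singular W hΔ
  have hf := smooth_iU W
  let : Algebra k (RU W) := (iU W).toAlgebra
  have : Algebra.FormallySmooth k (RU W) := hf.formallySmooth
  exact Groth.Agent.VarietyA.EllNonsing.partial_ne_zero W (xU W) (yU W) (wEq_U W)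
    (fun s a b h => ⟨liftU s a b h, liftU_comp s a b h, liftU_x s a b h, liftU_y s a b h⟩)
    (RingHom.id k) a b h1 h2 h3

/-- A smooth Weierstrass model has invertible discriminant. -/
theorem isUnit_Δ {A : Type u} [CommRing A] (W : WeierstrassCurve A) [Smooth (str W)] : IsUnit W.Δ := by
  by_contra h
  obtain ⟨m, hm, hmem⟩ := exists_max_ideal_of_mem_nonunits h
  let _ : Field (A ⧸ m) := Ideal.Quotient.field m
  let φ : A →+* AlgebraicClosure (A ⧸ m) := (algebraMap (A ⧸ m) (AlgebraicClosure (A ⧸ m))).comp (Ideal.Quotient.mk m)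
  have hP := isPullback_bc W φ
  have : Smooth (str (W.map φ)) := MorphismProperty.of_isPullback (P := @Smooth) hP inferInstance
  apply Δ_ne_zero (W.map φ)
  rw [WeierstrassCurve.map_Δ, RingHom.comp_apply, Ideal.Quotient.eq_zero_iff_mem.2 hmem, map_zero]

/-- The Weierstrass model is smooth if and only if the discriminant is invertible. -/
theorem smooth_str_iff {A : Type u} [CommRing A] (W : WeierstrassCurve A) : Smooth (str W) ↔ IsUnit W.Δ :=
  ⟨fun _ => isUnit_Δ W, WeiSmooth.smooth_str⟩

/-- Families of curves of genus one have fibres of genus one over all fields. -/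
theorem ellFib {C T : Scheme.{u}} {p : C ⟶ T} (h : ModFun.IsCurveOfGenus 1 p) : EllFib p := by
  intro K _ t X' g q' hP
  have h' := K995.GenusField.isCurveOfGenus_of_isPullback hP h
  refine ⟨K995.CurveBasic.isIntegral h', K995.CurveBasic.dim_eq_one h', ?_⟩
  exact K995.CurveBasic.h1_eq h'

theorem smoothOfRelDim {g : ℕ} {C T : Scheme.{u}} {p : C ⟶ T} (h : ModFun.IsCurveOfGenus g p) :
    SmoothOfRelativeDimension 1 p := by
  have := h.1
  have := h.2.2.1
  have : GeometricallyConnected p := K995.CurveBasic.geometricallyConnected p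
  refine K247.RelDim.curve p fun s => ?_
  exact K995.CurveBasic.dim_eq_one (K995.GenusField.isCurveOfGenus_of_isPullback
    (IsPullback.of_hasPullback p (T.fromSpecResidueField s)) h)

/-- **Weierstrass form of a pointed family of curves of genus one**, locally on the base. -/
theorem exists_iso_local {A : Type u} [CommRing A] {X : Scheme.{u}} (q : X ⟶ Spec (CommRingCat.of A))
    (hq : ModFun.IsCurveOfGenus 1 q) (e : Spec (CommRingCat.of A) ⟶ X) (he : e ≫ q = 𝟙 _)
    (s : PrimeSpectrum A) : ∃ b : A, b ∉ s.asIdeal ∧ ∀ {B : Type u} [CommRing B] (φ : A →+* B) (_ : φ.Flat)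
      (_ : IsUnit (φ b)) {X' : Scheme.{u}} {g : X' ⟶ X} {q' : X' ⟶ Spec (CommRingCat.of B)}
      (_ : IsPullback g q' q (Spec.map (CommRingCat.ofHom φ))) (e' : Spec (CommRingCat.of B) ⟶ X')
      (_ : e' ≫ q' = 𝟙 _) (_ : e' ≫ g = Spec.map (CommRingCat.ofHom φ) ≫ e),
      ∃ (W : WeierstrassCurve B) (_ : IsUnit W.Δ) (i : X' ≅ E W), i.hom ≫ str W = q' ∧ e' ≫ i.hom = zero W := by
  have h1 := hq.1
  have h2 := hq.2.1
  have h3 := smoothOfRelDim hq
  obtain ⟨b, hb, hB⟩ := exists_secData q e he s
  refine ⟨b, hb, ?_⟩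
  intro B _ φ hφ hu X' g q' hP e' he' hc
  have hq' := K995.GenusField.isCurveOfGenus_of_isPullback hP hq
  have i1 := hq'.1
  have i2 := hq'.2.1
  have hcl : IsClosedImmersion e' := by
    have : IsClosedImmersion (e' ≫ q') := by rw [he']; infer_instance
    exact IsClosedImmersion.of_comp e' q'
  let U' : X'.Opens := ⟨(Set.range e')ᶜ, e'.isClosedEmbedding.isClosed_range.isOpen_compl⟩
  obtain ⟨S⟩ := hB φ hφ hu hP e' he' hc U' (fun y => Iff.rfl)
  obtain ⟨W, ⟨c⟩⟩ := S.exists_co' (ellFib hq')
  have hi : IsIso c.hom := c.isIso_hom (ellFib hq') he'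
  have hsm : Smooth (str W) := by
    have h4 : str W = inv c.hom ≫ q' := by rw [IsIso.eq_inv_comp]; exact c.hom_str
    rw [h4]
    infer_instance
  exact ⟨W, isUnit_Δ W, asIso c.hom, c.hom_str, c.comp_hom he'⟩

/-- **Weierstrass form of a pointed curve of genus one over a field.** -/
theorem exists_iso_field {K : Type u} [Field K] {X : Scheme.{u}} (q : X ⟶ Spec (CommRingCat.of K))
    (hq : ModFun.IsCurveOfGenus 1 q) (e : Spec (CommRingCat.of K) ⟶ X) (he : e ≫ q = 𝟙 _) :
    ∃ (W : WeierstrassCurve K) (_ : IsUnit W.Δ) (i : X ≅ E W), i.hom ≫ str W = q ∧ e ≫ i.hom = zero W := by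
  obtain ⟨b, hb, hB⟩ := exists_iso_local q hq e he ⊥
  have hb0 : b ≠ 0 := fun h => hb (by rw [h]; exact zero_mem _)
  refine hB (RingHom.id K) (RingHom.Flat.id K) (IsUnit.mk0 _ hb0) (g := 𝟙 X) (q' := q) ?_ e he ?_
  · have : Spec.map (CommRingCat.ofHom (RingHom.id K)) = 𝟙 (Spec (CommRingCat.of K)) := Spec.map_id _
    rw [this]
    exact IsPullback.of_horiz_isIso ⟨by rw [Category.comp_id, Category.id_comp]⟩
  · have : Spec.map (CommRingCat.ofHom (RingHom.id K)) = 𝟙 (Spec (CommRingCat.of K)) := Spec.map_id _
    rw [this, Category.comp_id, Category.id_comp]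

end K253.WeiPt
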