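import Groth.Agent.EllLift.K820.Model
import Groth.Agent.EllLift.K820.ModelFP
import Groth.Agent.Lefpen.H705.JacHyp
import Mathlib.Algebra.Polynomial.Bivariate
import Mathlib.AlgebraicGeometry.Morphisms.Smooth
import Mathlib.AlgebraicGeometry.Morphisms.Flat

/-!
# The Weierstrass model is smooth where the discriminant is invertible (helper253)

`K820.EW.E W ⟶ Spec A` is smooth if `W.Δ` is a unit of `A`.
-/

set_option autoImplicit false
universe u

open CategoryTheory CategoryTheory.Limits AlgebraicGeometry Polynomial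
open K820.EW

namespace K253.WeiSmooth

variable {A : Type u} [CommRing A]

open Bivariate in
theorem smooth_quotient (f : A[X][X])
    (h : Ideal.span ({equivMvPolynomial A f} ∪ Set.range fun i =>
      MvPolynomial.pderiv i (equivMvPolynomial A f)) = ⊤) : Algebra.Smooth A (AdjoinRoot f) := by
  have h1 := Groth.Agent.Lefpen.H705.JacHyp.smooth_quotient_of_pderiv (equivMvPolynomial A f) h
  let e : (A[X][X] ⧸ Ideal.span {f}) ≃ₐ[A]
      (MvPolynomial (Fin 2) A ⧸ Ideal.span {equivMvPolynomial A f}) :=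
    Ideal.quotientEquivAlg _ _ (equivMvPolynomial A) (by
      rw [Ideal.map_span, Set.image_singleton]
      rfl)
  have h2 : Algebra.Smooth A (A[X][X] ⧸ Ideal.span {f}) := Algebra.Smooth.of_equiv e.symm
  exact h2

/-- The Jacobian ideal is the unit ideal if there is no singular point over a field. -/
theorem span_eq_top (F : MvPolynomial (Fin 2) A)
    (h : ∀ (κ : Type u) [Field κ] (φ : MvPolynomial (Fin 2) A →+* κ), φ F = 0 →
      φ (MvPolynomial.pderiv 0 F) = 0 → φ (MvPolynomial.pderiv 1 F) = 0 → False) :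
    Ideal.span ({F} ∪ Set.range fun i => MvPolynomial.pderiv i F) = ⊤ := by
  by_contra hne
  obtain ⟨M, hM, hle⟩ := Ideal.exists_le_maximal _ hne
  let _ : Field (MvPolynomial (Fin 2) A ⧸ M) := Ideal.Quotient.field M
  have key : ∀ x ∈ ({F} ∪ Set.range fun i => MvPolynomial.pderiv i F : Set _),
      (Ideal.Quotient.mk M) x = 0 := fun x hx =>
    Ideal.Quotient.eq_zero_iff_mem.mpr (hle (Ideal.subset_span hx))
  exact h _ (Ideal.Quotient.mk M) (key _ (Or.inl rfl)) (key _ (Or.inr ⟨0, rfl⟩)) (key _ (Or.inr ⟨1, rfl⟩))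

/-- No singular affine points for nonzero discriminant. -/
theorem no_singular {κ : Type u} [Field κ] (W : WeierstrassCurve κ) (hΔ : W.Δ ≠ 0) (x y : κ)
    (h : y ^ 2 + W.a₁ * x * y + W.a₃ * y = x ^ 3 + W.a₂ * x ^ 2 + W.a₄ * x + W.a₆)
    (hx : W.a₁ * y = 3 * x ^ 2 + 2 * W.a₂ * x + W.a₄) (hy : 2 * y + W.a₁ * x + W.a₃ = 0) : False := by
  have h1 : W.toAffine.Equation x y := (WeierstrassCurve.Affine.equation_iff x y).mpr h
  have h2 := (WeierstrassCurve.Affine.equation_iff_nonsingular_of_Δ_ne_zero hΔ).mp h1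
  rw [WeierstrassCurve.Affine.nonsingular_iff'] at h2
  rcases h2.2 with h3 | h3
  · exact h3 (by linear_combination hx)
  · exact h3 (by linear_combination hy)

variable (W : WeierstrassCurve A)

/-- the equation of the affine chart as a polynomial in two variables -/
noncomputable def fU : MvPolynomial (Fin 2) A :=
  .X 1 ^ 2 + .C W.a₁ * .X 0 * .X 1 + .C W.a₃ * .X 1 -
    (.X 0 ^ 3 + .C W.a₂ * .X 0 ^ 2 + .C W.a₄ * .X 0 + .C W.a₆)

/-- the equation of the chart at infinity as a polynomial in two variables (`X 0 = w`, `X 1 = z`) -/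
noncomputable def fC : MvPolynomial (Fin 2) A :=
  .X 1 ^ 3 + .C W.a₂ * .X 0 * .X 1 ^ 2 + (.C W.a₄ * .X 0 ^ 2 - .C W.a₁ * .X 0) * .X 1 +
    (.C W.a₆ * .X 0 ^ 3 - .C W.a₃ * .X 0 ^ 2 - .X 0)

theorem equiv_polU : Bivariate.equivMvPolynomial A (polU W) = fU W := by
  simp only [polU, WeierstrassCurve.Affine.polynomial, fU, map_add, map_sub, map_mul, map_pow,
    Bivariate.equivMvPolynomial_C_C, Bivariate.equivMvPolynomial_C_X, Bivariate.equivMvPolynomial_X]
  ring

theorem equiv_polC : Bivariate.equivMvPolynomial A (polC W) = fC W := by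
  simp only [polC, fC, map_add, map_sub, map_mul, map_pow,
    Bivariate.equivMvPolynomial_C_C, Bivariate.equivMvPolynomial_C_X, Bivariate.equivMvPolynomial_X]

variable {W}

theorem smooth_U (hΔ : IsUnit W.Δ) : Algebra.Smooth A (RU W) := by
  apply smooth_quotient
  rw [equiv_polU]
  apply span_eq_top
  intro κ _ φ h0 hx hy
  let s : A →+* κ := φ.comp MvPolynomial.C
  have hΔ' : (W.map s).Δ ≠ 0 := by
    rw [WeierstrassCurve.map_Δ]
    exact (hΔ.map s).ne_zero
  refine no_singular (W.map s) hΔ' (φ (.X 0)) (φ (.X 1)) ?_ ?_ ?_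
  · simp only [fU, map_add, map_sub, map_mul, map_pow] at h0
    simp only [WeierstrassCurve.map_a₁, WeierstrassCurve.map_a₂, WeierstrassCurve.map_a₃,
      WeierstrassCurve.map_a₄, WeierstrassCurve.map_a₆, s, RingHom.comp_apply]
    linear_combination h0
  · have e0 : MvPolynomial.pderiv (0 : Fin 2) (fU W) =
        .C W.a₁ * .X 1 - (3 * .X 0 ^ 2 + 2 * .C W.a₂ * .X 0 + .C W.a₄) := by
      simp only [fU, map_add, map_sub, Derivation.leibniz, Derivation.leibniz_pow, MvPolynomial.pderiv_C,
        MvPolynomial.pderiv_X, smul_eq_mul]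
      simp
      ring
    rw [e0] at hx
    simp only [map_add, map_sub, map_mul, map_pow, map_ofNat] at hx
    simp only [WeierstrassCurve.map_a₁, WeierstrassCurve.map_a₂, WeierstrassCurve.map_a₄, s,
      RingHom.comp_apply]
    linear_combination hx
  · have e1 : MvPolynomial.pderiv (1 : Fin 2) (fU W) =
        2 * .X 1 + .C W.a₁ * .X 0 + .C W.a₃ := by
      simp only [fU, map_add, map_sub, Derivation.leibniz, Derivation.leibniz_pow, MvPolynomial.pderiv_C,
        MvPolynomial.pderiv_X, smul_eq_mul]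
      simp
    rw [e1] at hy
    simp only [map_add, map_mul, map_ofNat] at hy
    simp only [WeierstrassCurve.map_a₁, WeierstrassCurve.map_a₃, s, RingHom.comp_apply]
    linear_combination hy

theorem smooth_C (hΔ : IsUnit W.Δ) : Algebra.Smooth A (RC W) := by
  apply smooth_quotient
  rw [equiv_polC]
  apply span_eq_top
  intro κ _ φ h0 hw hz
  let s : A →+* κ := φ.comp MvPolynomial.C
  have hΔ' : (W.map s).Δ ≠ 0 := by
    rw [WeierstrassCurve.map_Δ]
    exact (hΔ.map s).ne_zero
  have e0 : MvPolynomial.pderiv (0 : Fin 2) (fC W) =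
      .C W.a₂ * .X 1 ^ 2 + (2 * .C W.a₄ * .X 0 - .C W.a₁) * .X 1 +
        (3 * .C W.a₆ * .X 0 ^ 2 - 2 * .C W.a₃ * .X 0 - 1) := by
    simp only [fC, map_add, map_sub, Derivation.leibniz, Derivation.leibniz_pow, MvPolynomial.pderiv_C,
      MvPolynomial.pderiv_X, smul_eq_mul]
    simp
    ring
  have e1 : MvPolynomial.pderiv (1 : Fin 2) (fC W) =
      3 * .X 1 ^ 2 + 2 * .C W.a₂ * .X 0 * .X 1 + (.C W.a₄ * .X 0 ^ 2 - .C W.a₁ * .X 0) := by
    simp only [fC, map_add, map_sub, Derivation.leibniz, Derivation.leibniz_pow, MvPolynomial.pderiv_C,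
      MvPolynomial.pderiv_X, smul_eq_mul]
    simp
    ring
  rw [e0] at hw
  rw [e1] at hz
  simp only [fC, map_add, map_sub, map_mul, map_pow, map_ofNat, map_one] at h0 hw hz
  set z := φ (.X 1)
  set w := φ (.X 0)
  set b₁ := φ (.C W.a₁) with hb₁
  set b₂ := φ (.C W.a₂) with hb₂
  set b₃ := φ (.C W.a₃) with hb₃
  set b₄ := φ (.C W.a₄) with hb₄
  set b₆ := φ (.C W.a₆) with hb₆
  by_cases hw0 : w = 0
  · rw [hw0] at h0 hw
    have hz0 : z = 0 := by
      have : z ^ 3 = 0 := by linear_combination h0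
      exact pow_eq_zero_iff (n := 3) (by norm_num) |>.mp this
    rw [hz0] at hw
    have : (1 : κ) = 0 := by linear_combination -hw
    exact one_ne_zero this
  · refine no_singular (W.map s) hΔ' (z / w) (1 / w) ?_ ?_ ?_
    · simp only [WeierstrassCurve.map_a₁, WeierstrassCurve.map_a₂, WeierstrassCurve.map_a₃,
        WeierstrassCurve.map_a₄, WeierstrassCurve.map_a₆, s, RingHom.comp_apply, ← hb₁, ← hb₂, ← hb₃,
        ← hb₄, ← hb₆]
      field_simp
      linear_combination -h0
    · simp only [WeierstrassCurve.map_a₁, WeierstrassCurve.map_a₂, WeierstrassCurve.map_a₄, s,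
        RingHom.comp_apply, ← hb₁, ← hb₂, ← hb₄]
      field_simp
      linear_combination -hz
    · simp only [WeierstrassCurve.map_a₁, WeierstrassCurve.map_a₃, s, RingHom.comp_apply, ← hb₁, ← hb₃]
      have h5 : w * (2 + b₁ * z + b₃ * w) = 0 := by linear_combination z * hz + w * hw - 3 * h0
      have h6 := (mul_eq_zero.mp h5).resolve_left hw0
      field_simp
      linear_combination h6

/-- **The Weierstrass model is smooth if the discriminant is invertible.** -/
theorem smooth_str (hΔ : IsUnit W.Δ) : Smooth (str W) := by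
  rw [IsZariskiLocalAtSource.iff_of_openCover (P := @Smooth) (cover W)]
  rintro (_ | _)
  · change Smooth (ιU W ≫ str W)
    rw [ιU_str, HasRingHomProperty.Spec_iff (P := @Smooth)]
    have h := smooth_U hΔ
    have h2 : iU W = algebraMap A (RU W) := rfl
    rw [CommRingCat.hom_ofHom, h2, RingHom.smooth_algebraMap]
    exact h
  · change Smooth (ιC W ≫ str W)
    rw [ιC_str, HasRingHomProperty.Spec_iff (P := @Smooth)]
    have h := smooth_C hΔ
    have h2 : iC W = algebraMap A (RC W) := rfl
    rw [CommRingCat.hom_ofHom, h2, RingHom.smooth_algebraMap]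
    exact h

end K253.WeiSmooth
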