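import Groth.Agent.Pi1A.ProperClopen

/-!
# Zariski connectedness, topological form (helper253)

`X ⟶ Spec A` proper, `(A, I)` a henselian pair, `g : X → M` a continuous closed surjection onto a
topological space `M` which is compatible with a map `π : M → Spec A` : the clopen decompositions of
the closed fibre `π⁻¹ V(I)` lift to `M`.  In particular if `M` is connected then so is the closed
fibre.  (For `M` = the space of points of a proper algebraic space or a proper algebraic stack.)
-/

set_option autoImplicit false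
open CategoryTheory CategoryTheory.Limits AlgebraicGeometry Opposite TopologicalSpace
universe u v

namespace K253.ZarConn

open Groth.Agent.Pi1A.ProperClopen

/-- Liftability of clopen decompositions of a closed subset descends along a closed continuous
surjection `g : T → M`, as soon as every nonempty closed subset of `T` meets `g⁻¹ Z`. -/
theorem liftsClopen_of_surjective {T : Type u} {M : Type v} [TopologicalSpace T] [TopologicalSpace M]
    (g : T → M) (hg : Continuous g) (hc : IsClosedMap g) (hs : Function.Surjective g)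
    {Z : Set M} (h : LiftsClopen (g ⁻¹' Z))
    (hne : ∀ U : Set T, IsClosed U → U.Nonempty → (U ∩ g ⁻¹' Z).Nonempty) :
    LiftsClopen Z := by
  intro W₁ W₂ h₁ h₂ hd hu
  obtain ⟨U, hU, hUW⟩ := h (g ⁻¹' W₁) (g ⁻¹' W₂) (h₁.preimage hg) (h₂.preimage hg)
    (hd.preimage g) (by rw [← Set.preimage_union, hu])
  have hUW' : Uᶜ ∩ g ⁻¹' Z ⊆ g ⁻¹' W₂ := by
    rintro x ⟨hx, hxZ⟩
    have hxZ' : g x ∈ W₁ ∪ W₂ := by rw [hu]; exact hxZ
    rcases hxZ' with h1 | h2
    · exact absurd ((hUW ▸ h1 : x ∈ U ∩ g ⁻¹' Z)).1 hx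
    · exact h2
  have c1 : IsClosed (g '' U) := hc _ hU.isClosed
  have c2 : IsClosed (g '' Uᶜ) := hc _ hU.compl.isClosed
  have hcov : g '' U ∪ g '' Uᶜ = Set.univ := by
    rw [← Set.image_union, Set.union_compl_self, Set.image_univ, hs.range_eq]
  have hdis : g '' U ∩ g '' Uᶜ = ∅ := by
    by_contra hcon
    obtain ⟨m, hm⟩ := Set.nonempty_iff_ne_empty.mpr hcon
    obtain ⟨x, rfl⟩ := hs m
    obtain ⟨y, hy, hyZ⟩ := hne (g ⁻¹' (g '' U ∩ g '' Uᶜ)) ((c1.inter c2).preimage hg) ⟨x, hm⟩
    obtain ⟨⟨u, huU, hu'⟩, ⟨v, hvU, hv'⟩⟩ := hy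
    have hy1 : g y ∈ W₁ := by
      rw [← hu']
      have : u ∈ U ∩ g ⁻¹' Z := ⟨huU, by rw [Set.mem_preimage, hu']; exact hyZ⟩
      rw [hUW] at this
      exact this
    have hy2 : g y ∈ W₂ := by
      rw [← hv']
      exact hUW' ⟨hvU, by rw [Set.mem_preimage, hv']; exact hyZ⟩
    exact (Set.disjoint_left.mp hd hy1 hy2)
  have hcompl : g '' U = (g '' Uᶜ)ᶜ := by
    have hI : IsCompl (g '' U) (g '' Uᶜ) :=
      ⟨Set.disjoint_iff_inter_eq_empty.mpr hdis, codisjoint_iff.mpr hcov⟩
    exact hI.symm.compl_eq.symm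
  refine ⟨g '' U, ⟨c1, ?_⟩, ?_⟩
  · rw [hcompl]
    exact c2.isOpen_compl
  · ext m
    constructor
    · rintro ⟨⟨u, huU, rfl⟩, hmZ⟩
      have : u ∈ U ∩ g ⁻¹' Z := ⟨huU, hmZ⟩
      rw [hUW] at this
      exact this
    · intro hm
      obtain ⟨x, rfl⟩ := hs m
      have hx : x ∈ U ∩ g ⁻¹' Z := by
        rw [hUW]; exact hm
      exact ⟨⟨x, hx.1, rfl⟩, hx.2⟩

/-- If clopen decompositions of `Z` lift to the preconnected space `M` then `Z` is preconnected. -/
theorem isPreconnected_of_liftsClopen {M : Type v} [TopologicalSpace M] [PreconnectedSpace M]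
    {Z : Set M} (hZ : IsClosed Z) (h : LiftsClopen Z) : IsPreconnected Z := by
  rw [isPreconnected_closed_iff]
  intro t t' ht ht' hcov hne hne'
  by_contra hcon
  rw [Set.not_nonempty_iff_eq_empty] at hcon
  obtain ⟨U, hU, hUZ⟩ := h (Z ∩ t) (Z ∩ t') (hZ.inter ht) (hZ.inter ht')
    (by
      rw [Set.disjoint_iff_inter_eq_empty, ← hcon]
      ext x; simp only [Set.mem_inter_iff]; tauto)
    (by
      rw [← Set.inter_union_distrib_left]
      exact Set.inter_eq_left.mpr hcov)
  rcases isClopen_iff.mp hU with h0 | h1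
  · rw [h0, Set.empty_inter] at hUZ
    rw [← hUZ] at hne
    exact Set.not_nonempty_empty hne
  · rw [h1, Set.univ_inter] at hUZ
    obtain ⟨x, hxZ, hx⟩ := hne'
    have : x ∈ Z ∩ t := by rw [← hUZ]; exact hxZ
    have h2 : x ∈ Z ∩ (t ∩ t') := ⟨hxZ, this.2, hx⟩
    rw [hcon] at h2
    exact h2

variable (A : Type u) [CommRing A] (I : Ideal A) [HenselianRing A I]

/-- **Zariski connectedness, henselian pair form.** -/
theorem liftsClopen {X : Scheme.{u}} (f : X ⟶ Spec (CommRingCat.of A)) [IsProper f]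
    {M : Type v} [TopologicalSpace M] (g : X → M) (hg : Continuous g) (hc : IsClosedMap g)
    (hs : Function.Surjective g) (π : M → ↥(Spec (CommRingCat.of A))) (hπ : ∀ x, π (g x) = f x) :
    LiftsClopen (π ⁻¹' (PrimeSpectrum.zeroLocus (I : Set A))) := by
  have hpre : g ⁻¹' (π ⁻¹' (PrimeSpectrum.zeroLocus (I : Set A))) =
      f ⁻¹' (PrimeSpectrum.zeroLocus (I : Set A)) := by
    ext x
    simp only [Set.mem_preimage, hπ]
  apply liftsClopen_of_surjective g hg hc hs
  · rw [hpre]
    exact liftsClopen_of_isProper A I f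
  · intro U hU hUne
    rw [hpre]
    by_contra hcon
    rw [Set.not_nonempty_iff_eq_empty] at hcon
    rw [eq_empty_of_isClosed A I HenselianRing.jac f U hU hcon] at hUne
    exact Set.not_nonempty_empty hUne

/-- **Zariski connectedness, henselian pair form.** If `M` is preconnected then so is the part of
`M` over `V(I)`. -/
theorem isPreconnected {X : Scheme.{u}} (f : X ⟶ Spec (CommRingCat.of A)) [IsProper f]
    {M : Type v} [TopologicalSpace M] [PreconnectedSpace M] (g : X → M) (hg : Continuous g)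
    (hc : IsClosedMap g) (hs : Function.Surjective g) (π : M → ↥(Spec (CommRingCat.of A)))
    (hπ : ∀ x, π (g x) = f x) :
    IsPreconnected (π ⁻¹' (PrimeSpectrum.zeroLocus (I : Set A))) := by
  apply isPreconnected_of_liftsClopen _ (liftsClopen A I f g hg hc hs π hπ)
  have hcl : IsClosed (g '' (f ⁻¹' (PrimeSpectrum.zeroLocus (I : Set A)))) :=
    hc _ ((PrimeSpectrum.isClosed_zeroLocus _).preimage f.continuous)
  convert hcl using 1
  ext m
  constructor
  · intro hm
    obtain ⟨x, rfl⟩ := hs m
    exact ⟨x, by rw [Set.mem_preimage, hπ] at hm; exact hm, rfl⟩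
  · rintro ⟨x, hx, rfl⟩
    rw [Set.mem_preimage, hπ]
    exact hx

end K253.ZarConn

namespace K253.ZarConn

open Groth.Agent.Pi1A.ProperClopen

variable (A : Type u) [CommRing A]

lemma zeroLocus_maximalIdeal [IsLocalRing A] :
    PrimeSpectrum.zeroLocus (IsLocalRing.maximalIdeal A : Set A) =
      {(IsLocalRing.closedPoint A : PrimeSpectrum A)} := by
  ext x
  rw [Set.mem_singleton_iff, PrimeSpectrum.mem_zeroLocus]
  constructor
  · intro h
    apply PrimeSpectrum.ext
    exact (((IsLocalRing.maximalIdeal.isMaximal A).eq_of_le x.isPrime.ne_top h)).symm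
  · rintro rfl
    exact le_rfl

/-- **Zariski connectedness over a henselian local ring.**  If `M` is preconnected then so is the
closed fibre of `M`. -/
theorem isPreconnected_closedFibre [HenselianLocalRing A] {X : Scheme.{u}}
    (f : X ⟶ Spec (CommRingCat.of A)) [IsProper f]
    {M : Type v} [TopologicalSpace M] [PreconnectedSpace M] (g : X → M) (hg : Continuous g)
    (hc : IsClosedMap g) (hs : Function.Surjective g) (π : M → ↥(Spec (CommRingCat.of A)))
    (hπ : ∀ x, π (g x) = f x) :
    IsPreconnected (π ⁻¹' {(IsLocalRing.closedPoint A : PrimeSpectrum A)}) := by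
  have h := isPreconnected A (IsLocalRing.maximalIdeal A) f g hg hc hs π hπ
  rw [zeroLocus_maximalIdeal] at h
  exact h

/-- **Zariski connectedness over a henselian local ring.**  If `M` is connected then so is the
closed fibre of `M`. -/
theorem isConnected_closedFibre [HenselianLocalRing A] {X : Scheme.{u}}
    (f : X ⟶ Spec (CommRingCat.of A)) [IsProper f]
    {M : Type v} [TopologicalSpace M] [ConnectedSpace M] (g : X → M) (hg : Continuous g)
    (hc : IsClosedMap g) (hs : Function.Surjective g) (π : M → ↥(Spec (CommRingCat.of A)))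
    (hπ : ∀ x, π (g x) = f x) :
    IsConnected (π ⁻¹' {(IsLocalRing.closedPoint A : PrimeSpectrum A)}) := by
  refine ⟨?_, isPreconnected_closedFibre A f g hg hc hs π hπ⟩
  obtain ⟨m⟩ : Nonempty M := inferInstance
  obtain ⟨x, rfl⟩ := hs m
  by_contra hcon
  have hjac : (IsLocalRing.maximalIdeal A) ≤ Ideal.jacobson ⊥ :=
    (inferInstance : HenselianRing A (IsLocalRing.maximalIdeal A)).jac
  have h0 := eq_empty_of_isClosed A (IsLocalRing.maximalIdeal A) hjac f
    Set.univ isClosed_univ (by
      rw [zeroLocus_maximalIdeal, Set.univ_inter, ← Set.not_nonempty_iff_eq_empty]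
      rintro ⟨y, hy⟩
      exact hcon ⟨g y, by rw [Set.mem_preimage, hπ]; exact hy⟩)
  exact (h0 ▸ Set.mem_univ x : x ∈ (∅ : Set X))

end K253.ZarConn
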