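import Groth.Agent.CurvSt.K253.ZarConn
import Groth.Agent.AlgSp.K637.RelChow
import Groth.Agent.AlgSp.K597.ProperSub
import Groth.Agent.AlgSt.K738.YonProps
import Groth.Agent.AlgSt.K735.Top

/-!
# Zariski connectedness for algebraic spaces and stacks (helper253)

`X ⟶ Spec A` a proper algebraic space, `A` a henselian local ring: if `|X|` is connected then the
closed fibre of `|X|` is connected.  Also for a stack whose points map homeomorphically to the points of
such an algebraic space (e.g. a coarse space).
-/

set_option autoImplicit false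
open CategoryTheory CategoryTheory.Limits AlgebraicGeometry Opposite TopologicalSpace
open AlgSp
universe v u w

namespace K253.ZarConnSp

variable (A : Type u) [CommRing A] {S : Scheme.{u}} (v : Spec (CommRingCat.of A) ⟶ S)

/-- The map `|X| → Spec A` underlying a morphism from `X` to `h_{Spec A}`. -/
noncomputable def base {X : Sp S} (f : X ⟶ (yon S).obj (Over.mk v)) (x : Points X) :
    ↥(Spec (CommRingCat.of A)) :=
  (Points.schemeHomeo (Over.mk v)).symm (Points.map f x)

theorem continuous_base {X : Sp S} (f : X ⟶ (yon S).obj (Over.mk v)) : Continuous (base A v f) :=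
  (Points.schemeHomeo (Over.mk v)).symm.continuous.comp (Points.continuous_map f)

theorem base_map {X Y : Sp S} (g : Y ⟶ X) (f : X ⟶ (yon S).obj (Over.mk v)) (y : Points Y) :
    base A v f (Points.map g y) = base A v (g ≫ f) y := by
  unfold base
  rw [Points.map_comp]

theorem base_yon {T : Over S} (t : T ⟶ Over.mk v) (x : ↥T.left) :
    base A v ((yon S).map t) (Points.schemeHomeo T x) = t.left x := by
  unfold base
  rw [Points.map_yon_map_apply]
  exact (Points.schemeHomeo (Over.mk v)).symm_apply_apply _

/-- A proper algebraic space over `Spec A` is the target of a closed continuous surjection from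
a proper scheme over `Spec A`, compatibly with the maps to `Spec A`. -/
theorem exists_scheme {X : Sp S} (hX : IsAlgSpace X) (f : X ⟶ (yon S).obj (Over.mk v))
    (hf : IsProperMor f) :
    ∃ (T : Scheme.{u}) (t : T ⟶ Spec (CommRingCat.of A)) (g : T → Points X),
      IsProper t ∧ Continuous g ∧ IsClosedMap g ∧ Function.Surjective g ∧
        ∀ x, base A v f (g x) = t x := by
  have hV : IsAffine (Over.mk v).left := (inferInstance : IsAffine (Spec (CommRingCat.of A)))
  obtain ⟨T, t, g, hg, -, -, hgp, hgs⟩ := K637.RelChow.exists_relChow hV hX f hf.1 hf.2.1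
  have hp : IsProperMor ((yon S).map t) := by
    rw [← hg]
    exact K597.ProperSub.isProperMor_comp (IsAlgSpace.yon_obj T) hX (IsAlgSpace.yon_obj _) hgp hf
  have hcl : IsClosedMap (Points.map g) := by
    exact hgp.2.2 hX (𝟙 _) (𝟙 _) g (IsPullback.of_horiz_isIso ⟨by simp⟩)
  refine ⟨T.left, t.left, fun x => Points.map g (Points.schemeHomeo T x),
    (K738.isProperMor_yon_iff t).1 hp,
    (Points.continuous_map g).comp (Points.schemeHomeo T).continuous,
    hcl.comp (Points.schemeHomeo T).isClosedMap,
    hgs.comp (Points.schemeHomeo T).surjective, ?_⟩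
  intro x
  rw [base_map, hg, base_yon]

open Groth.Agent.Pi1A.ProperClopen in
/-- Zariski connectedness, henselian pair form. -/
theorem liftsClopen (I : Ideal A) [HenselianRing A I] {X : Sp S} (hX : IsAlgSpace X)
    (f : X ⟶ (yon S).obj (Over.mk v)) (hf : IsProperMor f) :
    LiftsClopen (base A v f ⁻¹' (PrimeSpectrum.zeroLocus (I : Set A))) := by
  obtain ⟨T, t, g, ht, hg1, hg2, hg3, hg4⟩ := exists_scheme A v hX f hf
  exact K253.ZarConn.liftsClopen A I t g hg1 hg2 hg3 _ hg4

/-- Zariski connectedness, henselian pair form. -/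
theorem isPreconnected (I : Ideal A) [HenselianRing A I] {X : Sp S} (hX : IsAlgSpace X)
    (f : X ⟶ (yon S).obj (Over.mk v)) (hf : IsProperMor f) [PreconnectedSpace (Points X)] :
    IsPreconnected (base A v f ⁻¹' (PrimeSpectrum.zeroLocus (I : Set A))) := by
  obtain ⟨T, t, g, ht, hg1, hg2, hg3, hg4⟩ := exists_scheme A v hX f hf
  exact K253.ZarConn.isPreconnected A I t g hg1 hg2 hg3 _ hg4

/-- **Zariski connectedness for algebraic spaces.** -/
theorem isConnected_closedFibre [HenselianLocalRing A] {X : Sp S} (hX : IsAlgSpace X)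
    (f : X ⟶ (yon S).obj (Over.mk v)) (hf : IsProperMor f) [ConnectedSpace (Points X)] :
    IsConnected (base A v f ⁻¹' {(IsLocalRing.closedPoint A : PrimeSpectrum A)}) := by
  obtain ⟨T, t, g, ht, hg1, hg2, hg3, hg4⟩ := exists_scheme A v hX f hf
  exact K253.ZarConn.isConnected_closedFibre A t g hg1 hg2 hg3 _ hg4

/-- **Zariski connectedness for stacks with a (topological) coarse space.**  `π : 𝒳 ⟶ X` with
`|π|` a homeomorphism, `X` a proper algebraic space over `Spec A`, `A` henselian local. -/
theorem isConnected_closedFibre_of_isHomeomorph [HenselianLocalRing A] {𝒳 : AlgSt.Cat S}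
    {X : Sp S} (hX : IsAlgSpace X)
    (f : X ⟶ (yon S).obj (Over.mk v)) (hf : IsProperMor f) (π : 𝒳 ⥤ᵇ AlgSt.ofSp X)
    (hπ : IsHomeomorph (AlgSt.Points.map π)) [ConnectedSpace (AlgSt.Points 𝒳)] :
    IsConnected ((fun x : AlgSt.Points 𝒳 => base A v f (K735.Top.ptsHomeo hX (AlgSt.Points.map π x))) ⁻¹'
      {(IsLocalRing.closedPoint A : PrimeSpectrum A)}) := by
  have hsurj : Function.Surjective (fun x : AlgSt.Points 𝒳 =>
      K735.Top.ptsHomeo hX (AlgSt.Points.map π x)) :=
    (K735.Top.ptsHomeo hX).surjective.comp hπ.surjective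
  have hcont : Continuous (fun x : AlgSt.Points 𝒳 => K735.Top.ptsHomeo hX (AlgSt.Points.map π x)) :=
    (K735.Top.ptsHomeo hX).continuous.comp hπ.continuous
  have : ConnectedSpace (Points X) := hsurj.connectedSpace hcont
  have h := isConnected_closedFibre A v hX f hf
  let e : AlgSt.Points 𝒳 ≃ₜ Points X :=
    (hπ.homeomorph _).trans (K735.Top.ptsHomeo hX)
  have h2 : IsConnected (e ⁻¹' (base A v f ⁻¹' {(IsLocalRing.closedPoint A : PrimeSpectrum A)})) :=
    e.isConnected_preimage.2 h
  exact h2

end K253.ZarConnSp
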